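import Mathlib

/-!
# Units of finitely generated domains over a field

For a finitely generated domain `A` over a field `k`, units modulo units integral over `k` embed in
a finitely generated free group: use Noether normalisation and valuations extending the degree
valuations in each variable.
-/

namespace Groth.Curves1.Units

open MvPolynomial

universe u

/-- The valuation `f ↦ exp (degree of f in the i-th variable)`. -/
noncomputable def degVal {σ k : Type*} [Field k] (i : σ) :
    Valuation (MvPolynomial σ k) (WithZero (Multiplicative ℤ)) := by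
  classical
  exact
  { toFun := fun f => if f = 0 then 0 else WithZero.exp (f.degreeOf i : ℤ)
    map_zero' := if_pos rfl
    map_one' := by rw [if_neg one_ne_zero, ← C_1, degreeOf_C, Nat.cast_zero, WithZero.exp_zero]
    map_mul' := fun a b => by
      by_cases ha : a = 0
      · simp [ha]
      by_cases hb : b = 0
      · simp [hb]
      simp only [if_neg ha, if_neg hb, if_neg (mul_ne_zero ha hb), degreeOf_mul_eq ha hb,
        Nat.cast_add, WithZero.exp_add]
    map_add_le_max' := fun a b => by
      by_cases hab : a + b = 0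
      · simp [hab]
      by_cases ha : a = 0
      · simp [ha]
      by_cases hb : b = 0
      · simp [hb]
      simp only [if_neg hab, if_neg ha, if_neg hb, le_max_iff, WithZero.exp_le_exp]
      have := le_max_iff.mp (degreeOf_add_le i a b)
      exact_mod_cast this }

theorem degVal_apply {σ k : Type*} [Field k] (i : σ) {f : MvPolynomial σ k} (hf : f ≠ 0) :
    degVal i f = WithZero.exp (f.degreeOf i : ℤ) := if_neg hf

/-- A valuation of a domain with trivial support extends to a valuation ring of any field
containing the domain. -/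
theorem exists_valuationSubring {P : Type*} [CommRing P] [IsDomain P] {Γ : Type*}
    [LinearOrderedCommGroupWithZero Γ] (v : Valuation P Γ) (hv : ∀ x, x ≠ 0 → v x ≠ 0)
    (L : Type*) [Field L] [Algebra P L] [FaithfulSMul P L] :
    ∃ W : ValuationSubring L, ∀ a b : P, b ≠ 0 →
      (algebraMap P L a / algebraMap P L b ∈ W ↔ v a ≤ v b) := by
  let := FractionRing.liftAlgebra P L
  set F := FractionRing P
  have hS : nonZeroDivisors P ≤ v.supp.primeCompl := fun x hx h =>
    hv x (nonZeroDivisors.ne_zero hx) ((Valuation.mem_supp_iff v x).mp h)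
  let v' := v.extendToLocalization hS F
  have hv' : ∀ a, v' (algebraMap P F a) = v a := v.extendToLocalization_apply_map_apply hS F
  obtain ⟨W, hW⟩ := (LocalSubring.map (algebraMap F L)
    v'.valuationSubring.toLocalSubring).exists_le_valuationSubring
  refine ⟨W, fun a b hb => ?_⟩
  have hdiv : algebraMap P L a / algebraMap P L b =
      algebraMap F L (algebraMap P F a / algebraMap P F b) := by
    rw [map_div₀, ← IsScalarTower.algebraMap_apply, ← IsScalarTower.algebraMap_apply]
  have hb' : v b ≠ 0 := hv b hb
  constructor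
  · intro h
    by_contra hlt
    rw [not_le] at hlt
    have ha : a ≠ 0 := by rintro rfl; simp at hlt
    set z := algebraMap P F b / algebraMap P F a with hz
    have hvz : v' z ≤ 1 := by
      rw [hz, map_div₀, hv', hv']
      exact (div_le_one₀ (zero_lt_iff.mpr (hv a ha))).mpr hlt.le
    obtain ⟨hle, hloc⟩ := hW
    have hu : IsUnit (Subring.inclusion hle ⟨algebraMap F L z, z, hvz, rfl⟩) := by
      refine isUnit_iff_exists_inv.mpr ⟨⟨_, h⟩, Subtype.ext ?_⟩
      show algebraMap F L z * (algebraMap P L a / algebraMap P L b) = 1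
      rw [hdiv, ← map_mul, hz, div_mul_div_comm, mul_comm, div_self, map_one]
      exact mul_ne_zero ((map_ne_zero_iff _ (IsFractionRing.injective P F)).mpr ha)
        ((map_ne_zero_iff _ (IsFractionRing.injective P F)).mpr hb)
    obtain ⟨⟨_, c, hc, rfl⟩, hc'⟩ := isUnit_iff_exists_inv.mp (hloc.map_nonunit _ hu)
    have h1 : z * c = 1 := (algebraMap F L).injective <| by
      rw [map_mul, map_one]
      exact congrArg Subtype.val hc'
    have h2 : v' z * v' c = 1 := by rw [← map_mul, h1, map_one]
    have h3 : v' z < 1 := by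
      rw [hz, map_div₀, hv', hv']
      exact (div_lt_one₀ (zero_lt_iff.mpr (hv a ha))).mpr hlt
    exact absurd h2 (ne_of_lt (mul_lt_one_of_lt_of_le h3 hc))
  · intro h
    rw [hdiv]
    refine hW.1 ⟨_, ?_, rfl⟩
    show v' _ ≤ 1
    rw [map_div₀, hv', hv']
    exact (div_le_one₀ (zero_lt_iff.mpr hb')).mpr h

theorem finite_algHom (P A L : Type*) [CommRing P] [CommRing A] [Algebra P A] [Module.Finite P A]
    [CommRing L] [IsDomain L] [Algebra P L] : Finite (A →ₐ[P] L) := by
  classical
  obtain ⟨S, hS⟩ := Module.Finite.fg_top (R := P) (M := A)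
  have hint : ∀ a : A, ∃ q : Polynomial P, q.Monic ∧ Polynomial.aeval a q = 0 := fun a =>
    Algebra.IsIntegral.isIntegral (R := P) a
  choose q hq hqa using hint
  let F : (A →ₐ[P] L) → (s : S) → ((q s).map (algebraMap P L)).roots.toFinset := fun τ s =>
    ⟨τ s, Multiset.mem_toFinset.mpr ((Polynomial.mem_roots ((hq _).map _).ne_zero).mpr <| by
      rw [Polynomial.IsRoot, Polynomial.eval_map_algebraMap, Polynomial.aeval_algHom_apply, hqa,
        map_zero])⟩
  refine Finite.of_injective F fun τ τ' h => ?_
  have := LinearMap.ext_on hS (f := τ.toLinearMap) (g := τ'.toLinearMap) fun s hs =>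
    congrArg Subtype.val (congrFun h ⟨s, hs⟩)
  exact AlgHom.toLinearMap_injective this

/-- Units of a finitely generated domain over a field, up to units integral over the field, embed
in a finitely generated free abelian group. -/
theorem exists_hom (k A : Type u) [Field k] [CommRing A] [IsDomain A] [Algebra k A]
    [Algebra.FiniteType k A] :
    ∃ (ι : Type u) (_ : Finite ι) (Ψ : Aˣ →* Multiplicative (ι → ℤ)),
      ∀ u, Ψ u = 1 → IsIntegral k (u : A) := by
  classical
  obtain ⟨r, g, hg, hfin⟩ := exists_finite_inj_algHom_of_fg k A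
  algebraize [g.toRingHom]
  have : Module.Finite (MvPolynomial (Fin r) k) A := hfin
  have : IsScalarTower k (MvPolynomial (Fin r) k) A :=
    IsScalarTower.of_algebraMap_eq fun x => (g.commutes x).symm
  have : FaithfulSMul (MvPolynomial (Fin r) k) A :=
    (faithfulSMul_iff_algebraMap_injective _ _).mpr hg
  set P := MvPolynomial (Fin r) k
  set F := FractionRing P
  let L := AlgebraicClosure F
  have : FaithfulSMul P L := (faithfulSMul_iff_algebraMap_injective _ _).mpr <| by
    rw [IsScalarTower.algebraMap_eq P F L]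
    exact (algebraMap F L).injective.comp (IsFractionRing.injective P F)
  have hPL : Function.Injective (algebraMap P L) := FaithfulSMul.algebraMap_injective P L
  have : Finite (A →ₐ[P] L) := finite_algHom P A L
  let τ₀ : A →ₐ[P] L := IsAlgClosed.lift
  have hτ₀ : Function.Injective τ₀ := by
    rw [injective_iff_map_eq_zero]
    intro a ha
    have hbot : RingHom.ker (τ₀ : A →+* L) = ⊥ := by
      refine Ideal.eq_bot_of_comap_eq_bot (R := P) ?_
      rw [eq_bot_iff]
      intro p hp
      rw [Ideal.mem_comap, RingHom.mem_ker, RingHom.coe_coe, AlgHom.commutes] at hp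
      exact hPL (hp.trans (map_zero _).symm)
    have : a ∈ RingHom.ker (τ₀ : A →+* L) := ha
    rwa [hbot] at this
  -- valuations at infinity
  have hex : ∀ i, ∃ W : ValuationSubring L, ∀ a b : P, b ≠ 0 →
      (algebraMap P L a / algebraMap P L b ∈ W ↔ degVal i a ≤ degVal i b) := fun i =>
    exists_valuationSubring (degVal i) (fun x hx => by simp [degVal_apply i hx]) L
  choose W hW using hex
  let w : ∀ i, Valuation L (W i).ValueGroup := fun i => (W i).valuation
  have hle : ∀ i (a b : P), b ≠ 0 →
      (w i (algebraMap P L a) ≤ w i (algebraMap P L b) ↔ degVal i a ≤ degVal i b) := by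
    intro i a b hb
    rw [← hW i a b hb, ← ValuationSubring.valuation_le_one_iff, map_div₀, div_le_one₀]
    exact zero_lt_iff.mpr ((Valuation.ne_zero_iff _).mpr ((map_ne_zero_iff _ hPL).mpr hb))
  have hy : ∀ i, 1 < w i (algebraMap P L (X i)) := fun i => by
    rw [← not_le, ← map_one (w i), ← map_one (algebraMap P L), hle i _ _ one_ne_zero, map_one,
      degVal_apply i (X_ne_zero i), degreeOf_X_self, not_le]
    simp [← WithZero.exp_zero]
  have hdeg : ∀ i (a : P), a ≠ 0 →
      w i (algebraMap P L a) = w i (algebraMap P L (X i)) ^ (a.degreeOf i : ℤ) := by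
    intro i a ha
    have hd : degVal i a = degVal i (X i ^ a.degreeOf i : P) := by
      rw [degVal_apply i ha, degVal_apply i (pow_ne_zero _ (X_ne_zero i)), degreeOf_X_self_pow]
    rw [zpow_natCast, ← map_pow, ← map_pow]
    exact le_antisymm ((hle i _ _ (pow_ne_zero _ (X_ne_zero i))).mpr hd.le)
      ((hle i _ _ ha).mpr hd.ge)
  set n := (⊤ : Submodule P A).spanFinrank
  have hval : ∀ (j : Fin r × (A →ₐ[P] L)) (u : Aˣ), ∃ m : ℤ,
      w j.1 (j.2 u) ^ (n.factorial : ℤ) = w j.1 (algebraMap P L (X j.1)) ^ m := by
    rintro ⟨i, τ⟩ u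
    obtain ⟨q, hq, hqn, hqu⟩ := LinearMap.exists_monic_and_natDegree_eq_and_aeval_eq_zero
      (R := P) (Algebra.lmul P A (u : A))
    have hqu' : Polynomial.aeval (u : A) q = 0 := by
      have h1 := Polynomial.aeval_algHom_apply (Algebra.lmul P A) (u : A) q
      rw [hqu] at h1
      simpa using (LinearMap.congr_fun h1 1).symm
    set x := τ (u : A)
    have hx : x ≠ 0 := (u.isUnit.map τ).ne_zero
    have hsum : ∑ j ∈ Finset.range (n + 1), algebraMap P L (q.coeff j) * x ^ j = 0 := by
      have h2 : Polynomial.aeval x q = 0 := by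
        rw [Polynomial.aeval_algHom_apply, hqu', map_zero]
      rw [Polynomial.aeval_eq_sum_range, hqn] at h2
      simpa [Algebra.smul_def] using h2
    obtain ⟨j, hj, hmax⟩ := Finset.exists_max_image (Finset.range (n + 1))
      (fun j => w i (algebraMap P L (q.coeff j) * x ^ j)) ⟨0, by simp⟩
    have hpos : 0 < w i (algebraMap P L (q.coeff j) * x ^ j) := by
      refine lt_of_lt_of_le ?_ (hmax n (by simp))
      rw [zero_lt_iff, Valuation.ne_zero_iff, show q.coeff n = 1 by simpa [hqn] using hq.coeff_natDegree,
        map_one, one_mul]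
      exact pow_ne_zero _ hx
    obtain ⟨l, hl, hlj, heq⟩ : ∃ l ∈ Finset.range (n + 1), l ≠ j ∧
        w i (algebraMap P L (q.coeff l) * x ^ l) = w i (algebraMap P L (q.coeff j) * x ^ j) := by
      by_contra hall
      push Not at hall
      have h3 := Valuation.map_sum_eq_of_lt (w i)
        (f := fun j => algebraMap P L (q.coeff j) * x ^ j) hj fun l hl => by
          obtain ⟨hl1, hl2⟩ := Finset.mem_sdiff.mp hl
          rw [Finset.mem_singleton] at hl2
          exact lt_of_le_of_ne (hmax l hl1) (hall l hl1 hl2)
      rw [hsum, map_zero] at h3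
      exact hpos.ne h3
    have hqj : q.coeff j ≠ 0 := fun h0 => by simp [h0] at hpos
    have hql : q.coeff l ≠ 0 := fun h0 => by
      rw [← heq] at hpos
      simp [h0] at hpos
    simp only [map_mul, map_pow, hdeg i _ hql, hdeg i _ hqj] at heq
    set Y := w i (algebraMap P L (X i))
    set Z := w i x
    have hY : Y ≠ 0 := (zero_lt_one.trans (hy i)).ne'
    have hZ : Z ≠ 0 := (Valuation.ne_zero_iff _).mpr hx
    have hrel : Z ^ ((l : ℤ) - j) =
        Y ^ ((q.coeff j).degreeOf i - (q.coeff l).degreeOf i : ℤ) := by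
      rw [← zpow_natCast Z l, ← zpow_natCast Z j, mul_comm] at heq
      rw [zpow_sub₀ hZ, zpow_sub₀ hY, div_eq_div_iff (zpow_ne_zero _ hZ) (zpow_ne_zero _ hY), heq]
    obtain ⟨c, hc⟩ : ((l : ℤ) - j) ∣ (n.factorial : ℤ) := by
      rw [Int.dvd_natCast]
      rw [Finset.mem_range] at hl hj
      exact Nat.dvd_factorial (by omega) (by omega)
    refine ⟨((q.coeff j).degreeOf i - (q.coeff l).degreeOf i) * c, ?_⟩
    rw [hc, zpow_mul, hrel, ← zpow_mul]
  choose m hm using hval
  have hinj : ∀ i, Function.Injective fun e : ℤ => w i (algebraMap P L (X i)) ^ e := fun i =>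
    (zpow_right_strictMono₀ (hy i)).injective
  let Ψ : Aˣ →* Multiplicative (Fin r × (A →ₐ[P] L) → ℤ) :=
    MonoidHom.mk' (fun u => Multiplicative.ofAdd fun j => m j u) fun a b => by
      rw [← ofAdd_add]
      refine congrArg _ (_root_.funext fun j => hinj j.1 ?_)
      simp only [Pi.add_apply]
      rw [zpow_add₀ (zero_lt_one.trans (hy j.1)).ne', ← hm, ← hm, ← hm, Units.val_mul, map_mul,
        map_mul, mul_zpow]
  refine ⟨_, inferInstance, Ψ, fun u hu => ?_⟩
  have hW1 : ∀ i (τ : A →ₐ[P] L), τ (u : A) ∈ W i := by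
    intro i τ
    have h0 : m (i, τ) u = 0 := congrFun (congrArg Multiplicative.toAdd hu) (i, τ)
    have h1 := hm (i, τ) u
    rw [h0, zpow_zero, zpow_natCast] at h1
    rw [← ValuationSubring.valuation_le_one_iff]
    exact ((pow_eq_one_iff.mp h1).resolve_right (Nat.factorial_pos n).ne').le
  set x := τ₀ (u : A)
  have hxint : IsIntegral P x := (Algebra.IsIntegral.isIntegral (u : A)).map τ₀
  have hmp : minpoly F x = (minpoly P x).map (algebraMap P F) :=
    minpoly.isIntegrallyClosed_eq_field_fractions' F hxint
  have hcoeff : ∀ i e, algebraMap P L ((minpoly P x).coeff e) ∈ W i := by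
    intro i e
    set p := (minpoly F x).map (algebraMap F L)
    have hp : p.Monic := (minpoly.monic hxint.tower_top).map _
    have hroots : ∀ ρ ∈ p.roots, ρ ∈ W i := by
      intro ρ hρ
      have hρ' : ρ ∈ (minpoly F x).rootSet L := by
        rw [Polynomial.rootSet_def, Finset.mem_coe, Multiset.mem_toFinset]
        exact hρ
      rw [← Algebra.IsAlgebraic.range_eval_eq_rootSet_minpoly (K := L) (A := L) x] at hρ'
      obtain ⟨ψ, rfl⟩ := hρ'
      exact hW1 i ((ψ.restrictScalars P).comp τ₀)
    have hmem : p ∈ (Polynomial.mapRingHom (W i).subtype).range := by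
      rw [(IsAlgClosed.splits p).eq_prod_roots_of_monic hp]
      refine multiset_prod_mem _ fun f hf => ?_
      obtain ⟨ρ, hρ, rfl⟩ := Multiset.mem_map.mp hf
      exact ⟨Polynomial.X - Polynomial.C ⟨ρ, hroots ρ hρ⟩, by simp⟩
    obtain ⟨Q, hQ⟩ := hmem
    have hce := congrArg (fun f => Polynomial.coeff f e) hQ
    simp only [Polynomial.coe_mapRingHom, Polynomial.coeff_map, p, hmp] at hce
    rw [← IsScalarTower.algebraMap_apply] at hce
    rw [← hce]
    exact (Q.coeff e).2
  have hconst : ∀ e, (minpoly P x).coeff e = C (constantCoeff ((minpoly P x).coeff e)) := by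
    intro e
    refine vars_eq_empty_iff_eq_C.mp (Finset.eq_empty_iff_forall_notMem.mpr fun i hi => ?_)
    have h1 := hW i ((minpoly P x).coeff e) 1 one_ne_zero
    rw [map_one (algebraMap P L), div_one, map_one] at h1
    have h2 := h1.mp (hcoeff i e)
    have hne : (minpoly P x).coeff e ≠ 0 := fun h0 => by simp [h0] at hi
    rw [degVal_apply i hne, ← WithZero.exp_zero, WithZero.exp_le_exp] at h2
    rw [vars_def, Multiset.mem_toFinset, ← Multiset.count_pos, ← degreeOf_def] at hi
    omega
  refine ⟨(minpoly P x).map constantCoeff, (minpoly.monic hxint).map _, ?_⟩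
  have heq : ((minpoly P x).map constantCoeff).map (algebraMap k P) = minpoly P x := by
    ext1 e
    rw [Polynomial.coeff_map, Polynomial.coeff_map]
    exact (hconst e).symm
  rw [← Polynomial.aeval_def, ← Polynomial.aeval_map_algebraMap P, heq]
  apply hτ₀
  rw [← Polynomial.aeval_algHom_apply, map_zero]
  exact minpoly.aeval P x

/-- An abelian group mapped to a finitely generated free one with kernel inside `H` has finitely
generated quotient by `H`. -/
theorem fg_quotient_of_hom {G : Type*} [CommGroup G] (H : Subgroup G) {ι : Type*} [Finite ι]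
    (Ψ : G →* Multiplicative (ι → ℤ)) (hker : Ψ.ker ≤ H) : Group.FG (G ⧸ H) := by
  have hR : Group.FG Ψ.range := by
    rw [Group.fg_iff_subgroup_fg, Subgroup.fg_iff_add_fg]
    let e : Additive (Multiplicative (ι → ℤ)) ≃+ (ι → ℤ) := AddEquiv.additiveMultiplicative _
    have : Module.Finite ℤ (Additive (Multiplicative (ι → ℤ))) :=
      Module.Finite.equiv e.symm.toIntLinearEquiv
    have := IsNoetherian.noetherian (R := ℤ) Ψ.range.toAddSubgroup.toIntSubmodule
    rwa [Submodule.fg_iff_addSubgroup_fg, AddSubgroup.toIntSubmodule_toAddSubgroup] at this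
  let f : Ψ.range →* G ⧸ H := (QuotientGroup.map Ψ.ker H (MonoidHom.id G) (by simpa using hker)).comp
    (QuotientGroup.quotientKerEquivRange Ψ).symm.toMonoidHom
  refine Group.fg_of_surjective (f := f) ?_
  intro y
  obtain ⟨g, rfl⟩ := QuotientGroup.mk_surjective y
  exact ⟨QuotientGroup.quotientKerEquivRange Ψ g, by simp [f]⟩

end Groth.Curves1.Units
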