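import Mathlib
import Groth.Agent.Curves1.Units

/-!
# Fields inside finitely generated reduced algebras consist of integral elements
-/

namespace Groth.Curves1.ConstantField

open Polynomial

universe u

theorem exists_irreducibles (F : Type*) [Field F] (N : ℕ) :
    ∃ p : Fin N → F[X], Function.Injective p ∧ ∀ i, (p i).Monic ∧ Irreducible (p i) := by
  classical
  induction N with
  | zero => exact ⟨Fin.elim0, fun i => i.elim0, fun i => i.elim0⟩
  | succ N ih =>
    obtain ⟨p, hp, hpi⟩ := ih
    set Q := X * ∏ i, p i + 1 with hQ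
    have hQu : ¬ IsUnit Q := by
      intro h
      have hd := natDegree_eq_zero_of_isUnit h
      rw [hQ, natDegree_add_eq_left_of_natDegree_lt, natDegree_X_mul] at hd
      · omega
      · exact (monic_prod_of_monic _ _ fun i _ => (hpi i).1).ne_zero
      · rw [natDegree_one, natDegree_X_mul (monic_prod_of_monic _ _ fun i _ => (hpi i).1).ne_zero]
        omega
    obtain ⟨q, hqm, hqi, hqd⟩ := Q.exists_monic_irreducible_factor hQu
    refine ⟨Fin.snoc p q, ?_, Fin.lastCases (by simpa using ⟨hqm, hqi⟩) fun i => by simpa using hpi i⟩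
    rw [Fin.snoc_injective_iff]
    refine ⟨hp, ?_⟩
    rintro ⟨i, rfl⟩
    refine hqi.not_isUnit (isUnit_of_dvd_one ?_)
    exact (dvd_add_right (dvd_mul_of_dvd_right (Finset.dvd_prod_of_mem p (Finset.mem_univ i)) _)).mp hqd

/-- A field mapped into a finitely generated domain over a field consists of integral elements. -/
theorem isIntegral_of_isDomain (k A : Type u) [Field k] [CommRing A] [IsDomain A] [Algebra k A]
    [Algebra.FiniteType k A] {K : Type u} [Field K] (ψ : K →+* A) (t : K) : IsIntegral k (ψ t) := by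
  classical
  -- a subfield of `K` mapping to constants
  let S : Subfield K :=
    { ((algebraMap k A).range).comap ψ with
      inv_mem' := fun c hc => by
        obtain ⟨a, ha⟩ := hc
        refine ⟨a⁻¹, ?_⟩
        by_cases hc0 : c = 0
        · subst hc0
          rw [map_zero, map_eq_zero] at ha
          simp [ha]
        · apply mul_left_cancel₀ ((map_ne_zero ψ).mpr hc0)
          rw [← map_mul ψ, mul_inv_cancel₀ hc0, map_one, ← ha, ← map_mul, mul_inv_cancel₀, map_one]
          intro ha0
          rw [ha0, map_zero] at ha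
          exact (map_ne_zero ψ).mpr hc0 ha.symm }
  by_contra ht
  have halg : ∀ a : S[X], a ≠ 0 → ψ (aeval t a) ≠ 0 := by
    intro a ha h0
    rw [map_eq_zero] at h0
    obtain ⟨q, hq, hq0⟩ : IsIntegral S t := isAlgebraic_iff_isIntegral.mp ⟨a, ha, h0⟩
    apply ht
    have hS : ∀ s : S, ∃ r : k, algebraMap k A r = ψ (s : K) := fun s => s.2
    choose r hr using hS
    have hlift : q.map (ψ.comp (algebraMap S K)) ∈ lifts (algebraMap k A) := by
      rw [lifts_iff_coeff_lifts]
      intro n
      rw [coeff_map]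
      exact ⟨r (q.coeff n), hr _⟩
    obtain ⟨q', hq', -, hq'm⟩ := lifts_and_degree_eq_and_monic hlift (hq.map _)
    refine ⟨q', hq'm, ?_⟩
    rw [← eval_map, hq', ← map_zero ψ, ← hq0, eval_map, hom_eval₂]
  obtain ⟨ι, hι, Ψ, hΨ⟩ := Groth.Curves1.Units.exists_hom k A
  have := Fintype.ofFinite ι
  obtain ⟨p, hp, hpi⟩ := exists_irreducibles S (Fintype.card ι + 1)
  have hunit : ∀ a : S[X], a ≠ 0 → IsUnit (ψ (aeval t a)) := fun a ha =>
    (Ne.isUnit fun h => halg a ha (by rw [h, map_zero])).map ψ
  let U : ∀ j, Aˣ := fun j => (hunit (p j) (hpi j).1.ne_zero).unit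
  have hdep : ¬ LinearIndependent ℤ fun j => Multiplicative.toAdd (Ψ (U j)) := fun h => by
    have := h.fintype_card_le_finrank
    simp [Module.finrank_pi] at this
  obtain ⟨e, he, i₀, hi₀⟩ := Fintype.not_linearIndependent_iff.mp hdep
  set a := ∏ j, p j ^ (e j).toNat with ha
  set b := ∏ j, p j ^ (-e j).toNat with hb
  have ham : a.Monic := monic_prod_of_monic _ _ fun j _ => (hpi j).1.pow _
  have hbm : b.Monic := monic_prod_of_monic _ _ fun j _ => (hpi j).1.pow _
  have hab : a ≠ b := by
    intro h
    have key : ∀ f g : Fin (Fintype.card ι + 1) → ℕ, ∏ j, p j ^ f j = ∏ j, p j ^ g j →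
        ∀ i, 0 < f i → 0 < g i := by
      intro f g hfg i hi
      have hd : p i ∣ ∏ j, p j ^ g j :=
        hfg ▸ (dvd_pow_self (p i) hi.ne').trans
          (Finset.dvd_prod_of_mem (fun j => p j ^ f j) (Finset.mem_univ i))
      obtain ⟨j, -, hj⟩ := (hpi i).2.prime.exists_mem_finset_dvd hd
      have hj' := (hpi i).2.prime.dvd_of_dvd_pow hj
      have : i = j := hp (eq_of_monic_of_associated (hpi i).1 (hpi j).1
        ((hpi i).2.associated_of_dvd (hpi j).2 hj'))
      subst this
      rcases Nat.eq_zero_or_pos (g i) with h0 | h0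
      · rw [h0, pow_zero] at hj
        exact absurd (isUnit_of_dvd_one hj) (hpi i).2.not_isUnit
      · exact h0
    rcases lt_trichotomy (e i₀) 0 with hlt | heq | hgt
    · have := key _ _ h.symm i₀ (by simp; omega)
      simp at this; omega
    · exact hi₀ heq
    · have := key _ _ h i₀ (by simp; omega)
      simp at this; omega
  set w := (∏ j, U j ^ (e j).toNat) * (∏ j, U j ^ (-e j).toNat)⁻¹ with hw
  have hwint : IsIntegral k (w : A) := by
    refine hΨ w (Multiplicative.toAdd.injective ?_)
    rw [toAdd_one, ← he]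
    simp only [hw, map_mul, map_inv, map_prod, map_pow, toAdd_mul, toAdd_inv, toAdd_prod, toAdd_pow,
      ← sub_eq_add_neg, ← Finset.sum_sub_distrib]
    refine Finset.sum_congr rfl fun j _ => ?_
    rw [← natCast_zsmul, ← natCast_zsmul, ← sub_smul, Int.toNat_sub_toNat_neg]
  have hrel : ψ (aeval t a) = (w : A) * ψ (aeval t b) := by
    have hev : ∀ f : Fin (Fintype.card ι + 1) → ℕ,
        ψ (aeval t (∏ j, p j ^ f j)) = ((∏ j, U j ^ f j : Aˣ) : A) := fun f => by
      simp [U, IsUnit.unit_spec]
    rw [ha, hb, hev, hev, ← Units.val_mul, hw, inv_mul_cancel_right]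
  -- so `ψ t` is algebraic over the integral closure of `k` in `A`, a field
  set B := integralClosure k A
  have hS : ∀ s : S, ψ (s : K) ∈ B := fun s => by
    obtain ⟨r, hr⟩ := s.2
    exact hr ▸ B.algebraMap_mem r
  let σ : S →+* B :=
    { toFun := fun s => ⟨ψ (s : K), hS s⟩
      map_one' := Subtype.ext (map_one ψ)
      map_zero' := Subtype.ext (map_zero ψ)
      map_mul' := fun x y => Subtype.ext (map_mul ψ _ _)
      map_add' := fun x y => Subtype.ext (map_add ψ _ _) }
  set c : B := ⟨(w : A), hwint⟩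
  have hev' : ∀ f : S[X], aeval (ψ t) (f.map σ) = ψ (aeval t f) := fun f => by
    rw [aeval_def, aeval_def, eval₂_map, hom_eval₂]
    rfl
  have hne : a.map σ - C c * b.map σ ≠ 0 := by
    intro h
    rw [sub_eq_zero] at h
    have hc : c = 1 := by
      have h1 := congrArg leadingCoeff h
      rwa [(ham.map σ).leadingCoeff, leadingCoeff_mul, leadingCoeff_C, (hbm.map σ).leadingCoeff, mul_one,
        eq_comm] at h1
    rw [hc, C_1, one_mul] at h
    exact hab (map_injective σ σ.injective h)
  have hBf : IsField B := isField_of_isIntegral_of_isField' (Field.toIsField k)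
  have halgt : IsAlgebraic B (ψ t) := by
    refine ⟨_, hne, ?_⟩
    rw [map_sub, map_mul, aeval_C, hev', hev', hrel, sub_eq_zero]
    rfl
  let := hBf.toField
  exact ht (isIntegral_trans (R := k) (A := B) _ halgt.isIntegral)

/-- A field mapped into a finitely generated reduced algebra over a field consists of integral
elements. -/
theorem isIntegral_of_isReduced (k A : Type u) [Field k] [CommRing A] [IsReduced A] [Algebra k A]
    [Algebra.FiniteType k A] {K : Type u} [Field K] (ψ : K →+* A) (t : K) : IsIntegral k (ψ t) := by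
  classical
  have : IsNoetherianRing A := Algebra.FiniteType.isNoetherianRing k A
  have hfin := minimalPrimes.finite_of_isNoetherianRing A
  have h : ∀ P ∈ minimalPrimes A, ∃ q : k[X], q.Monic ∧ aeval (ψ t) q ∈ P := by
    intro P hP
    have : P.IsPrime := hP.1.1
    obtain ⟨q, hq, hq0⟩ := isIntegral_of_isDomain k (A ⧸ P) ((Ideal.Quotient.mk P).comp ψ) t
    refine ⟨q, hq, ?_⟩
    rw [← Ideal.Quotient.eq_zero_iff_mem, ← Ideal.Quotient.mkₐ_eq_mk k, ← aeval_algHom_apply,
      aeval_def]
    exact hq0
  choose! q hq hqP using h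
  refine ⟨∏ P ∈ hfin.toFinset, q P, monic_prod_of_monic _ _ fun P hP => hq P (by simpa using hP), ?_⟩
  rw [← aeval_def]
  have hmem : aeval (ψ t) (∏ P ∈ hfin.toFinset, q P) ∈ nilradical A := by
    rw [nilradical, ← Ideal.sInf_minimalPrimes, Ideal.mem_sInf]
    intro P hP
    refine Ideal.mem_of_dvd P ?_ (hqP P hP)
    exact map_dvd _ (Finset.dvd_prod_of_mem q (hfin.mem_toFinset.mpr hP))
  rwa [nilradical_eq_zero] at hmem

/-- An element of a reduced algebra over a field which is integral is regular in the sense of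
von Neumann. -/
theorem exists_mul_one_sub_eq_zero {k A : Type*} [Field k] [CommRing A] [IsReduced A] [Algebra k A]
    {y : A} (hy : IsIntegral k y) : ∃ z, y * (1 - y * z) = 0 := by
  obtain ⟨q, hq, hq0⟩ := hy
  rw [← aeval_def] at hq0
  obtain ⟨r, hr, hr'⟩ := q.exists_eq_pow_rootMultiplicity_mul_and_not_dvd hq.ne_zero 0
  rw [map_zero, sub_zero] at hr hr'
  rw [X_dvd_iff] at hr'
  have h0 : y * aeval y r = 0 := by
    refine IsReduced.eq_zero _ ⟨q.rootMultiplicity 0 + 1, ?_⟩
    rw [hr, map_mul, map_pow, aeval_X] at hq0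
    rw [mul_pow, pow_succ y, pow_succ' (aeval y r)]
    linear_combination (y * aeval y r ^ q.rootMultiplicity 0) * hq0
  refine ⟨-(algebraMap k A (r.coeff 0)⁻¹ * aeval y r.divX), ?_⟩
  have h1 : y * (algebraMap k A (r.coeff 0) + y * aeval y r.divX) = 0 := by
    rw [← h0]
    conv_rhs => rw [← X_mul_divX_add r, map_add, map_mul, aeval_X, aeval_C]
    ring
  have h2 : algebraMap k A (r.coeff 0)⁻¹ * algebraMap k A (r.coeff 0) = 1 := by
    rw [← map_mul, inv_mul_cancel₀ hr', map_one]
  linear_combination algebraMap k A (r.coeff 0)⁻¹ * h1 - y * h2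

end Groth.Curves1.ConstantField
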