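import Mathlib

/-!
# Spaces and schemes of dimension at most one
-/

namespace Groth.Curves1

open TopologicalSpace AlgebraicGeometry CategoryTheory

universe u

section Top

variable {X : Type*} [TopologicalSpace X]

/-- In a `T₀` quasi-sober irreducible space of dimension at most one, a proper irreducible closed
subset is a closed point. -/
theorem exists_eq_singleton_of_isIrreducible [QuasiSober X] [T0Space X] [IrreducibleSpace X]
    (hX : topologicalKrullDim X ≤ 1) {Z : Set X} (hZ : IsIrreducible Z) (hZc : IsClosed Z)
    (hne : Z ≠ Set.univ) : ∃ z, Z = {z} ∧ IsClosed ({z} : Set X) := by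
  obtain ⟨z, hz⟩ := QuasiSober.sober hZ hZc
  have hzZ : closure {z} = Z := hz
  have key : Z ⊆ {z} := by
    intro y hy
    by_contra hyz
    have hlt : closure ({y} : Set X) < Z := by
      refine lt_of_le_of_ne ((hZc.closure_subset_iff).mpr (Set.singleton_subset_iff.mpr hy)) ?_
      intro he
      exact hyz (IsGenericPoint.eq (show IsGenericPoint y Z from he) hz)
    let A : IrreducibleCloseds X := ⟨closure {y}, isIrreducible_singleton.closure, isClosed_closure⟩
    let B : IrreducibleCloseds X := ⟨Z, hZ, hZc⟩
    let C : IrreducibleCloseds X := ⟨Set.univ, IrreducibleSpace.isIrreducible_univ X, isClosed_univ⟩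
    have hAB : A < B := hlt
    have hBC : B < C := lt_of_le_of_ne (Set.subset_univ Z : (Z : Set X) ≤ Set.univ) fun e =>
      hne (congrArg (fun W : IrreducibleCloseds X => (W : Set X)) e)
    have h2 : ((2 : ℕ) : WithBot ℕ∞) ≤ topologicalKrullDim X :=
      Order.LTSeries.length_le_krullDim
        ⟨2, ![A, B, C], fun i => by fin_cases i <;> assumption⟩
    exact absurd (h2.trans hX) (by decide)
  have hzmem : z ∈ Z := by rw [← hzZ]; exact subset_closure rfl
  have he : Z = {z} := key.antisymm (Set.singleton_subset_iff.mpr hzmem)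
  exact ⟨z, he, he ▸ hZc⟩

/-- A proper closed subset of a Noetherian irreducible one-dimensional space is a finite set of
closed points. -/
theorem finite_of_isClosed [NoetherianSpace X] [QuasiSober X] [T0Space X] [IrreducibleSpace X]
    (hX : topologicalKrullDim X ≤ 1) {Z : Set X} (hZ : IsClosed Z) (hne : Z ≠ Set.univ) :
    Z.Finite ∧ ∀ z ∈ Z, IsClosed ({z} : Set X) := by
  obtain ⟨S, hSf, hSc, hSi, rfl⟩ := NoetherianSpace.exists_finite_set_isClosed_irreducible hZ
  have h : ∀ t ∈ S, ∃ z, t = {z} ∧ IsClosed ({z} : Set X) := fun t ht =>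
    exists_eq_singleton_of_isIrreducible hX (hSi t ht) (hSc t ht) fun e =>
      hne (Set.eq_univ_of_univ_subset (e ▸ Set.subset_sUnion_of_mem ht))
  refine ⟨hSf.sUnion fun t ht => ?_, ?_⟩
  · obtain ⟨z, rfl, -⟩ := h t ht; exact Set.finite_singleton z
  · rintro y ⟨t, ht, hy⟩
    obtain ⟨z, rfl, hz⟩ := h t ht
    rw [Set.mem_singleton_iff.mp hy]; exact hz

end Top

/-- A finite discrete scheme is affine. -/
theorem isAffine_of_finite_of_discreteTopology (X : Scheme.{u}) [Finite X] [DiscreteTopology X] :
    IsAffine X := by
  let U : X → X.Opens := fun x => ⟨{x}, isOpen_discrete _⟩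
  have hU : ∀ x, IsAffineOpen (U x) := by
    intro x
    obtain ⟨W, hW, hxW, hWU⟩ := exists_isAffineOpen_mem_and_subset (show x ∈ U x from rfl)
    have : W = U x := le_antisymm hWU (by rintro y (rfl : y = x); exact hxW)
    exact this ▸ hW
  have h := IsAffineOpen.iSup_of_disjoint hU
    (by intro a b hab; simp only [Function.onFun]; rw [disjoint_iff]; ext y
        simp only [U, Opens.coe_inf, Opens.coe_mk, Set.mem_inter_iff, Set.mem_singleton_iff]
        exact ⟨fun h => (hab (h.1.symm.trans h.2)).elim, fun h => h.elim⟩)
  have htop : ⨆ x, U x = ⊤ := top_unique fun x _ => Opens.mem_iSup.mpr ⟨x, rfl⟩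
  rw [htop] at h
  have : IsAffine (⊤ : X.Opens) := h
  exact isAffine_of_isAffineHom (Scheme.topIso X).inv

set_option backward.isDefEq.respectTransparency.types false in
/-- A finite discrete scheme of finite type over a field is finite over it. -/
theorem isFinite_of_finite_of_discreteTopology {k : Type u} [Field k] {X : Scheme.{u}}
    (f : X ⟶ Spec (CommRingCat.of k)) [LocallyOfFiniteType f] [Finite X] [DiscreteTopology X] :
    IsFinite f := by
  have := isAffine_of_finite_of_discreteTopology X
  have := LocallyOfFiniteType.isLocallyNoetherian f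
  have : IsLocallyArtinian X := .of_isLocallyNoetherian_of_discreteTopology
  have hA : IsArtinianRing Γ(X, ⊤) := inferInstance
  refine (HasAffineProperty.iff_of_isAffine (P := @IsFinite)
    (Q := fun X _ f _ => IsAffine X ∧ RingHom.Finite (f.appTop).hom)).mpr ?_
  refine ⟨inferInstance, ?_⟩
  have hft : (f.appTop).hom.FiniteType :=
    HasRingHomProperty.appTop @LocallyOfFiniteType f inferInstance
  have : IsArtinianRing Γ(Spec (CommRingCat.of k), ⊤) :=
    (Scheme.ΓSpecIso (CommRingCat.of k)).symm.commRingCatIsoToRingEquiv.surjective.isArtinianRing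
  algebraize [f.appTop.hom]
  exact (Module.finite_iff_isArtinianRing _ _).mpr hA

end Groth.Curves1
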