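import Mathlib
import Groth.Agent.CurveBridge.RegularSmooth
import Groth.Agent.CurveBridge.Main
import Groth.Agent.CurveBridge.SmoothCurve
import Groth.Agent.VBCurves.HomEuler
import Groth.Agent.VBCurves.H0Bound
import Groth.Agent.VBCurves.GenusOneClass
import Groth.Agent.VBCurves.GenusOneEval
import Groth.Agent.VBCurves.GenusOneOdd

/-!
# Normalized and indecomposable bundles of rank two on a curve
-/

set_option autoImplicit false
set_option linter.unusedSectionVars false
set_option linter.style.haveILetI false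

universe u

open CategoryTheory CategoryTheory.Limits AlgebraicGeometry TopologicalSpace
open CategoryTheory.Abelian (Ext)
open scoped Groth.CurveBridge
open Groth.VBCurves

namespace Groth.Curves1.RankTwo

variable {k : Type u} [Field k] [IsAlgClosed k] {X : Scheme.{u}}
  [X.Over (Spec (CommRingCat.of k))] [IsIntegral X] [IsProper (X ↘ Spec (CommRingCat.of k))]

/-- The standing hypotheses of a regular curve. -/
theorem setup (hdim : topologicalKrullDim X = 1)
    (hreg : ∀ x : X, IsRegularLocalRing (X.presheaf.stalk x)) :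
    Groth.CurveBridge.IsRegCurve X ∧ FunFld.IsFunctionField k X.functionField ∧ IsVBCurve k X ∧
      ∃ ω : X.Modules, IsDualizing k ω := by
  have : Smooth (X ↘ Spec (CommRingCat.of k)) := Groth.CurveBridge.smooth_of_regular k X hreg
  have h : Groth.CurveBridge.IsRegCurve X := ⟨hdim, hreg⟩
  have hK := Groth.CurveBridge.isFunctionField (k := k) (X := X) hdim
  have hc := IsVBCurve.of_smooth k (X := X) hdim
  exact ⟨h, hK, hc, exists_isDualizing h hK hc⟩

include k in
/-- A nonzero morphism from the structure module, given sections. -/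
theorem exists_section_hom {M : X.Modules} (h : Nontrivial (Coh.HH X M 0)) :
    ∃ f : Coh.structureModule X ⟶ M, f ≠ 0 := by
  obtain ⟨v, hv⟩ := exists_ne (0 : Coh.HH X M 0)
  refine ⟨Groth.PicAux.homOfSection (Groth.EulerDeg.h0Equiv k M v), fun hz => hv ?_⟩
  rw [← (Groth.EulerDeg.h0Equiv k M).map_eq_zero_iff, ← Groth.PicAux.homOfSection_one
    (Groth.EulerDeg.h0Equiv k M v)]
  show (Groth.PicAux.homOfSection (Groth.EulerDeg.h0Equiv k M v)).app ⊤ (Groth.PicAux.oneSec X ⊤) = 0
  rw [hz]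
  rfl

include k in
/-- A nonzero morphism from the structure module gives a nonzero section. -/
theorem nontrivial_h0 {M : X.Modules} (f : Coh.structureModule X ⟶ M) (hf : f ≠ 0) :
    Nontrivial (Coh.HH X M 0) := by
  by_contra hn
  rw [not_nontrivial_iff_subsingleton] at hn
  have : Subsingleton Γ(M, ⊤) := (Groth.EulerDeg.h0Equiv k M).symm.toEquiv.subsingleton
  refine hf (Groth.CohTwo.hom_ext_app fun W s => ?_)
  rw [Groth.PicAux.hom_structure_apply f W s,
    Subsingleton.elim (f.app ⊤ (Groth.PicAux.oneSec X ⊤)) 0]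
  simp

/-- A nonzero morphism out of a line bundle into a bundle is mono. -/
theorem mono_of_ne_zero (hc : IsVBCurve k X) {L E : X.Modules}
    (hL : FlatMod.IsFinLocFreeOfRank 1 L) (hE : FlatMod.IsFinLocFree E) (f : L ⟶ E) (hf : f ≠ 0) :
    Mono f := by
  obtain ⟨K, I, i, p, j, w, -, -, -, hj, hfac, hm, hK, hI, hr, -, hI0⟩ :=
    exists_image hc (Groth.LocFree.isFinLocFree_of_rank hL) hE f
  have := hI0 hf
  rw [rk_eq hL] at hr
  have := hm (by omega)
  rw [← hfac]
  infer_instance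

include k in
/-- A line subbundle `G` gives a section of `E ⊗ G⁻¹`. -/
theorem nontrivial_h0_twist {E G M : X.Modules} (i : G ⟶ E) (hi : i ≠ 0)
    (h : ClSub.IsInverseOf G M) : Nontrivial (Coh.HH X (CohB1.tensorMod E M) 0) := by
  have : (tw M).IsEquivalence := Groth.PicAux.isEquivalence_tensorRightMod (Groth.PicAux.isInverseOf_symm h)
  have : PreservesBinaryBiproducts (tw M) :=
    preservesBinaryBiproducts_of_preservesBinaryProducts (tw M)
  have := Functor.additive_of_preservesBinaryBiproducts (tw M)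
  obtain ⟨e⟩ := id h
  refine nontrivial_h0 (k := k) (e.inv ≫ (tw M).map i) fun hz => hi ((tw M).map_injective ?_)
  rw [Functor.map_zero]
  exact (cancel_epi e.inv).1 (hz.trans comp_zero.symm)

section Normalized

variable (hc : IsVBCurve k X) {E : X.Modules}
  (hneg : ∀ M : X.Modules, PicF.IsInvertible M → Curv2.deg k X M 1 < 0 →
    Subsingleton (Coh.HH X (CohB1.tensorMod E M) 0))
include hc hneg

/-- Line subsheaves of a normalized bundle have degree at most zero. -/
theorem dg_le_zero {G : X.Modules} (hG : FlatMod.IsFinLocFreeOfRank 1 G) (i : G ⟶ E) (hi : i ≠ 0) :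
    dg k G ≤ 0 := by
  by_contra hd
  have hGi := Groth.LocFree.isInvertible_iff_ofRank_one.2 hG
  obtain ⟨M, hM, hinv⟩ := Groth.PicAux.exists_isInverseOf hGi
  have hdM := HomEuler.deg_inverse hc hGi hM hinv
  rw [dg_eq k hG] at hdM
  exact (not_nontrivial_iff_subsingleton.2 (hneg M hM (by omega)))
    (nontrivial_h0_twist (k := k) i hi hinv)

/-- A nonzero section of a normalized bundle has invertible cokernel. -/
theorem section_ses (hE : FlatMod.IsFinLocFreeOfRank 2 E) (s : Coh.structureModule X ⟶ E)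
    (hs : s ≠ 0) :
    ∃ (Q : X.Modules) (q : E ⟶ Q) (w : s ≫ q = 0),
      (ShortComplex.mk s q w).ShortExact ∧ FlatMod.IsFinLocFreeOfRank 1 Q ∧
        dg k Q = dg k E := by
  have hO := Groth.LocFree.isInvertible_iff_ofRank_one.1
    (Groth.EulerDeg.isInvertible_structureModule X)
  have hO' := Groth.LocFree.isFinLocFree_of_rank hO
  have hE' := Groth.LocFree.isFinLocFree_of_rank hE
  have := mono_of_ne_zero hc hO hE' s hs
  obtain ⟨G, Q, σ, i, q, w, hS, hσ, hσm, hG, hQ, hrG⟩ := exists_saturation hc hE' hO' s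
  rw [rk_eq hO] at hrG
  have hG1 : FlatMod.IsFinLocFreeOfRank 1 G := hrG ▸ isFinLocFreeOfRank_rk hG
  have hr2 := rk_add hS hG hQ
  have hd2 := dg_add k hS hG hQ
  dsimp only at hr2 hd2
  rw [rk_eq hE, hrG] at hr2
  have hle := dg_le_of_mono k hc.dim.le hO' hG σ (by rw [rk_eq hO, hrG])
  have hdO : dg k (Coh.structureModule X) = 0 := by
    rw [← dg_eq k hO]; exact Groth.EulerDeg.deg_structure k
  have hi0 : i ≠ 0 := fun h0 => hs (by rw [← hσ, h0, comp_zero])
  have hG0 := dg_le_zero hc hneg hG1 i hi0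
  have hiso : IsIso σ := hle.2.1 (by have := hle.1; omega)
  have w' : s ≫ q = 0 := by rw [← hσ, Category.assoc, w, comp_zero]
  refine ⟨Q, q, w', ?_, (show rk Q = 1 by omega) ▸ isFinLocFreeOfRank_rk hQ, by omega⟩
  let eS : ShortComplex.mk i q w ≅ ShortComplex.mk s q w' :=
    ShortComplex.isoMk (asIso σ).symm (Iso.refl E) (Iso.refl Q) (by simp [← hσ]) (by simp)
  exact ShortComplex.shortExact_of_iso eS hS

/-- The cokernel of a nonzero section of a normalized bundle is invertible. -/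
theorem isInvertible_cokernel (hE : FlatMod.IsFinLocFreeOfRank 2 E)
    (s : Coh.structureModule X ⟶ E) (hs : s ≠ 0) : PicF.IsInvertible (cokernel s) := by
  obtain ⟨Q, q, w, hS, hQ, -⟩ := section_ses hc hneg hE s hs
  have : Epi q := hS.epi_g
  let e : Q ≅ cokernel s :=
    IsColimit.coconePointUniqueUpToIso hS.gIsCokernel (colimit.isColimit (parallelPair s 0))
  exact Groth.PicAux.isInvertible_of_iso (Groth.LocFree.isInvertible_iff_ofRank_one.2 hQ) e

end Normalized

/-- A decomposable normalized bundle is `O ⊕ L` with `deg L ≤ 0`. -/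
theorem exists_structure_biprod (hc : IsVBCurve k X) {E L₁ L₂ : X.Modules}
    (hL₁ : PicF.IsInvertible L₁) (hL₂ : PicF.IsInvertible L₂) (e : E ≅ L₁ ⊞ L₂)
    (hn0 : Nontrivial (Coh.HH X E 0))
    (hneg : ∀ M : X.Modules, PicF.IsInvertible M → Curv2.deg k X M 1 < 0 →
      Subsingleton (Coh.HH X (CohB1.tensorMod E M) 0)) :
    ∃ L : X.Modules, PicF.IsInvertible L ∧ Curv2.deg k X L 1 ≤ 0 ∧
      Nonempty (E ≅ Coh.structureModule X ⊞ L) := by
  obtain ⟨s, hs⟩ := exists_section_hom (k := k) hn0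
  have h₁ := Groth.LocFree.isInvertible_iff_ofRank_one.1 hL₁
  have h₂ := Groth.LocFree.isInvertible_iff_ofRank_one.1 hL₂
  have hO := Groth.LocFree.isInvertible_iff_ofRank_one.1
    (Groth.EulerDeg.isInvertible_structureModule X)
  have hdO : dg k (Coh.structureModule X) = 0 := by
    rw [← dg_eq k hO]; exact Groth.EulerDeg.deg_structure k
  have key : ∀ (L : X.Modules) (i : L ⟶ E), FlatMod.IsFinLocFreeOfRank 1 L → Mono i →
      dg k L ≤ 0 := fun L i hL _ => by
    refine dg_le_zero hc hneg hL i fun h0 => not_isZero_of_rank hL one_pos ?_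
    rw [IsZero.iff_id_eq_zero, ← cancel_mono i, h0, comp_zero, comp_zero]
  have hd₁ := key L₁ (biprod.inl ≫ e.inv) h₁ inferInstance
  have hd₂ := key L₂ (biprod.inr ≫ e.inv) h₂ inferInstance
  have iso_of : ∀ (L : X.Modules), FlatMod.IsFinLocFreeOfRank 1 L → dg k L ≤ 0 →
      ∀ f : Coh.structureModule X ⟶ L, f ≠ 0 → Nonempty (L ≅ Coh.structureModule X) := by
    intro L hL hd f hf
    have hL' := Groth.LocFree.isFinLocFree_of_rank hL
    have hO' := Groth.LocFree.isFinLocFree_of_rank hO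
    have := mono_of_ne_zero hc hO hL' f hf
    have hle := (dg_le_of_mono k hc.dim.le hO' hL' f (by rw [rk_eq hO, rk_eq hL])).1
    have := isIso_of_mono hc hO' hL' f (by rw [rk_eq hO, rk_eq hL]) (by omega)
    exact ⟨(asIso f).symm⟩
  by_cases h1 : s ≫ e.hom ≫ biprod.fst = 0
  · have h2 : s ≫ e.hom ≫ biprod.snd ≠ 0 := fun h2 => hs <| by
      rw [← cancel_mono e.hom, zero_comp]
      exact biprod.hom_ext _ _ (by simpa using h1) (by simpa using h2)
    obtain ⟨a⟩ := iso_of L₂ h₂ hd₂ _ h2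
    exact ⟨L₁, hL₁, by rw [dg_eq k h₁]; exact hd₁,
      ⟨e ≪≫ biprod.braiding L₁ L₂ ≪≫ biprod.mapIso a (Iso.refl L₁)⟩⟩
  · obtain ⟨a⟩ := iso_of L₁ h₁ hd₁ _ h1
    exact ⟨L₂, hL₂, by rw [dg_eq k h₂]; exact hd₂, ⟨e ≪≫ biprod.mapIso a (Iso.refl L₂)⟩⟩

variable (hc : IsVBCurve k X) {ω : X.Modules} (hω : IsDualizing k ω)
include hc hω

/-- A non-split extension of lines: `deg G - deg Q ≤ 2g - 2`. -/
theorem dg_sub_le_of_not_split {G E Q : X.Modules} {i : G ⟶ E} {q : E ⟶ Q} {w : i ≫ q = 0}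
    (hS : (ShortComplex.mk i q w).ShortExact) (hG : FlatMod.IsFinLocFreeOfRank 1 G)
    (hQ : FlatMod.IsFinLocFreeOfRank 1 Q) (hns : ¬ IsSplitEpi q) :
    dg k G - dg k Q ≤ 2 * (Curv2.genus k X : ℤ) - 2 := by
  by_contra hlt
  have hQi := Groth.LocFree.isInvertible_iff_ofRank_one.2 hQ
  have hGi := Groth.LocFree.isInvertible_iff_ofRank_one.2 hG
  obtain ⟨Q', hQ', hinv⟩ := Groth.PicAux.exists_isInverseOf hQi
  have hinv' := Groth.PicAux.isInverseOf_symm hinv
  have hT := Groth.LocFree.isInvertible_iff_ofRank_one.1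
    (Groth.PicAux.isInvertible_tensorMod hQ' hGi)
  have hT' := Groth.LocFree.isFinLocFree_of_rank hT
  refine hns (isSplitEpi_of_h1 k hS hinv' ?_)
  refine subsingleton_h1_of_ss hc hω hT' (St.ss hc hT' (st_line hT)) ?_
  rw [rk_eq hT, ← dg_eq k hT, Groth.EulerDeg.deg_tensor_invertible k hc.dim.le hQ' hGi,
    HomEuler.deg_inverse hc hQi hQ' hinv, dg_eq k hQ, dg_eq k hG]
  push_cast
  linarith

/-- Twists by lines of large degree have sections. -/
theorem exists_sub_line {E : X.Modules} (hE : FlatMod.IsFinLocFreeOfRank 2 E) {m : ℤ}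
    (hm : 0 < dg k E + 2 * m + 2 * (1 - (Curv2.genus k X : ℤ))) {M : X.Modules}
    (hM : PicF.IsInvertible M) (hdM : Curv2.deg k X M 1 = m) :
    Nontrivial (Coh.HH X (CohB1.tensorMod E M) 0) := by
  have hE' := Groth.LocFree.isFinLocFree_of_rank hE
  obtain ⟨hr, hd⟩ := tw_numerics (k := k) hc hM hE'
  rw [rk_eq hE, hdM] at hd
  rw [rk_eq hE] at hr
  have he := Groth.EulerDeg.euler_eq_h0_sub_h1 k X hc.dim.le (CohB1.tensorMod E M)
  have h1 := Groth.EulerDeg.euler_eq_deg_add k (CohB1.tensorMod E M) 2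
  have h2 := HomEuler.euler_structure_of hc hω
  have h3 : Curv2.deg k X (CohB1.tensorMod E M) 2 = dg k ((tw M).obj E) := by
    rw [dg, hr]
    rfl
  refine Module.nontrivial_of_finrank_pos (R := k) ?_
  rw [h3, hd, h2] at h1
  push_cast at h1 hm
  omega

/-- The upper bound for normalized bundles. -/
theorem dg_le_two_mul (h : Groth.CurveBridge.IsRegCurve X)
    (hK : FunFld.IsFunctionField k X.functionField) {E : X.Modules}
    (hE : FlatMod.IsFinLocFreeOfRank 2 E)
    (hneg : ∀ M : X.Modules, PicF.IsInvertible M → Curv2.deg k X M 1 < 0 →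
      Subsingleton (Coh.HH X (CohB1.tensorMod E M) 0)) :
    dg k E ≤ 2 * (Curv2.genus k X : ℤ) := by
  obtain ⟨M, hM, hdM⟩ := GenusOne.exists_line (k := k) h hK (-1)
  have hMi := Groth.LocFree.isInvertible_iff_ofRank_one.2 hM
  by_contra hlt
  exact (not_nontrivial_iff_subsingleton.2 (hneg M hMi (by omega)))
    (exists_sub_line hc hω hE (by omega) hMi hdM)

/-- Both bounds for a line subsheaf of an indecomposable bundle. -/
theorem two_mul_dg_le {E : X.Modules} (hE : FlatMod.IsFinLocFreeOfRank 2 E)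
    (hind : ∀ L₁ L₂ : X.Modules, FlatMod.IsFinLocFreeOfRank 1 L₁ →
      FlatMod.IsFinLocFreeOfRank 1 L₂ → IsEmpty (E ≅ L₁ ⊞ L₂))
    {L : X.Modules} (hL : FlatMod.IsFinLocFreeOfRank 1 L) (ι : L ⟶ E) [Mono ι] :
    2 * dg k L ≤ dg k E + 2 * (Curv2.genus k X : ℤ) - 2 := by
  have hE' := Groth.LocFree.isFinLocFree_of_rank hE
  have hL' := Groth.LocFree.isFinLocFree_of_rank hL
  obtain ⟨G, Q, σ, i, q, w, hS, hσ, hσm, hG, hQ, hrG⟩ := exists_saturation hc hE' hL' ι
  rw [rk_eq hL] at hrG
  have hr2 := rk_add hS hG hQ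
  have hd2 := dg_add k hS hG hQ
  dsimp only at hr2 hd2
  rw [rk_eq hE, hrG] at hr2
  have hG1 : FlatMod.IsFinLocFreeOfRank 1 G := hrG ▸ isFinLocFreeOfRank_rk hG
  have hQ1 : FlatMod.IsFinLocFreeOfRank 1 Q := (show rk Q = 1 by omega) ▸ isFinLocFreeOfRank_rk hQ
  have hle := (dg_le_of_mono k hc.dim.le hL' hG σ (by rw [rk_eq hL, hrG])).1
  have h1 := dg_sub_le_of_not_split hc hω hS hG1 hQ1 fun hs => (hind G Q hG1 hQ1).false
    (ShortComplex.Splitting.ofExactOfSection (ShortComplex.mk i q w) hS.exact (section_ q)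
      (IsSplitEpi.id q) hS.mono_f).isoBinaryBiproduct
  omega

/-- A line subsheaf of large degree. -/
theorem exists_big_sub (h : Groth.CurveBridge.IsRegCurve X)
    (hK : FunFld.IsFunctionField k X.functionField) {E : X.Modules}
    (hE : FlatMod.IsFinLocFreeOfRank 2 E) :
    ∃ (L : X.Modules) (ι : L ⟶ E), FlatMod.IsFinLocFreeOfRank 1 L ∧ Mono ι ∧
      dg k E - 2 * (Curv2.genus k X : ℤ) ≤ 2 * dg k L := by
  let m : ℤ := (2 * (Curv2.genus k X : ℤ) - dg k E) / 2
  obtain ⟨M, hM, hdM⟩ := GenusOne.exists_line (k := k) h hK m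
  have hMi := Groth.LocFree.isInvertible_iff_ofRank_one.2 hM
  obtain ⟨s, hs⟩ := exists_section_hom (k := k)
    (exists_sub_line hc hω hE (by simp only [m]; omega) hMi hdM)
  obtain ⟨T, hT, hinv⟩ := Groth.PicAux.exists_isInverseOf hMi
  have hinv' := Groth.PicAux.isInverseOf_symm hinv
  obtain ⟨σ, hσ⟩ := H0Bound.exists_transpose hinv' (Coh.structureModule X) E s hs
  have hOT := Groth.LocFree.isInvertible_iff_ofRank_one.1
    (Groth.PicAux.isInvertible_tensorMod (Groth.EulerDeg.isInvertible_structureModule X) hT)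
  refine ⟨_, σ, hOT, mono_of_ne_zero hc hOT (Groth.LocFree.isFinLocFree_of_rank hE) σ hσ, ?_⟩
  rw [← dg_eq k hOT, Groth.EulerDeg.deg_tensor_invertible k hc.dim.le
    (Groth.EulerDeg.isInvertible_structureModule X) hT, HomEuler.deg_inverse hc hMi hT hinv,
    Groth.EulerDeg.deg_structure (X := X) k, hdM]
  simp only [m]
  omega

/-- Normalized indecomposable bundles: `deg E ≥ 2 - 2g`. -/
theorem two_sub_le_dg {E : X.Modules} (hE : FlatMod.IsFinLocFreeOfRank 2 E)
    (hn0 : Nontrivial (Coh.HH X E 0))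
    (hneg : ∀ M : X.Modules, PicF.IsInvertible M → Curv2.deg k X M 1 < 0 →
      Subsingleton (Coh.HH X (CohB1.tensorMod E M) 0))
    (hind : ∀ L₁ L₂ : X.Modules, PicF.IsInvertible L₁ → PicF.IsInvertible L₂ →
      IsEmpty (E ≅ L₁ ⊞ L₂)) :
    2 - 2 * (Curv2.genus k X : ℤ) ≤ dg k E := by
  obtain ⟨s, hs⟩ := exists_section_hom (k := k) hn0
  have hO := Groth.LocFree.isInvertible_iff_ofRank_one.1
    (Groth.EulerDeg.isInvertible_structureModule X)
  have := mono_of_ne_zero hc hO (Groth.LocFree.isFinLocFree_of_rank hE) s hs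
  have h1 := two_mul_dg_le hc hω hE (fun L₁ L₂ h₁ h₂ => hind L₁ L₂
    (Groth.LocFree.isInvertible_iff_ofRank_one.2 h₁)
    (Groth.LocFree.isInvertible_iff_ofRank_one.2 h₂)) hO s
  have hdO : dg k (Coh.structureModule X) = 0 := by
    rw [← dg_eq k hO]; exact Groth.EulerDeg.deg_structure k
  omega

/-- On an elliptic curve a normalized bundle of rank two has degree at most one. -/
theorem dg_ne_two (h : Groth.CurveBridge.IsRegCurve X)
    (hK : FunFld.IsFunctionField k X.functionField) (hg : Curv2.genus k X = 1) {E : X.Modules}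
    (hE : FlatMod.IsFinLocFreeOfRank 2 E)
    (hneg : ∀ M : X.Modules, PicF.IsInvertible M → Curv2.deg k X M 1 < 0 →
      Subsingleton (Coh.HH X (CohB1.tensorMod E M) 0)) :
    dg k E ≠ 2 := by
  intro hd
  obtain ⟨M, hM, hdM⟩ := GenusOne.exists_line (k := k) h hK (-1)
  have hMi := Groth.LocFree.isInvertible_iff_ofRank_one.2 hM
  have hE' := Groth.LocFree.isFinLocFree_of_rank hE
  obtain ⟨hrH, hdH⟩ := tw_numerics (k := k) hc hMi hE'
  rw [rk_eq hE, hd, hdM] at hdH
  rw [rk_eq hE] at hrH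
  obtain ⟨P, hP, hdP, f, hf⟩ := GenusOne.exists_line_hom h hK hc hω hg (isFinLocFree_tw hMi hE')
    (by omega) (by rw [hdH]; norm_num)
  obtain ⟨T, hT, hinv⟩ := Groth.PicAux.exists_isInverseOf hMi
  obtain ⟨σ, hσ⟩ := H0Bound.exists_transpose (Groth.PicAux.isInverseOf_symm hinv) P E f hf
  have hPi := Groth.LocFree.isInvertible_iff_ofRank_one.2 hP
  have hPT := Groth.LocFree.isInvertible_iff_ofRank_one.1
    (Groth.PicAux.isInvertible_tensorMod hPi hT)
  have h1 := dg_le_zero hc hneg hPT σ hσ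
  rw [← dg_eq k hPT, Groth.EulerDeg.deg_tensor_invertible k hc.dim.le hPi hT,
    HomEuler.deg_inverse hc hMi hT hinv, hdP, hdM] at h1
  omega

variable [HasExt.{u} X.Modules]

/-- An indecomposable normalized bundle of degree zero on an elliptic curve is a non-split
self-extension of the structure module. -/
theorem exists_self_ses (hg : Curv2.genus k X = 1) {E : X.Modules}
    (hE : FlatMod.IsFinLocFreeOfRank 2 E) (hn0 : Nontrivial (Coh.HH X E 0))
    (hneg : ∀ M : X.Modules, PicF.IsInvertible M → Curv2.deg k X M 1 < 0 →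
      Subsingleton (Coh.HH X (CohB1.tensorMod E M) 0))
    (hind : ∀ L₁ L₂ : X.Modules, PicF.IsInvertible L₁ → PicF.IsInvertible L₂ →
      IsEmpty (E ≅ L₁ ⊞ L₂))
    (hd : dg k E = 0) :
    ∃ (s : Coh.structureModule X ⟶ E) (q : E ⟶ Coh.structureModule X) (w : s ≫ q = 0),
      (ShortComplex.mk s q w).ShortExact ∧ ¬ IsSplitEpi q := by
  obtain ⟨s, hs⟩ := exists_section_hom (k := k) hn0
  obtain ⟨Q, q, w, hS, hQ, hdQ⟩ := section_ses hc hneg hE s hs
  have hO := Groth.LocFree.isInvertible_iff_ofRank_one.1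
    (Groth.EulerDeg.isInvertible_structureModule X)
  have hO' := Groth.LocFree.isFinLocFree_of_rank hO
  have hQ' := Groth.LocFree.isFinLocFree_of_rank hQ
  have hdO : dg k (Coh.structureModule X) = 0 := by
    rw [← dg_eq k hO]; exact Groth.EulerDeg.deg_structure k
  have hns : ¬ IsSplitEpi q := fun hsp => (hind _ Q (Groth.EulerDeg.isInvertible_structureModule X)
    (Groth.LocFree.isInvertible_iff_ofRank_one.2 hQ)).false
    (ShortComplex.Splitting.ofExactOfSection (ShortComplex.mk s q w) hS.exact (section_ q)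
      (IsSplitEpi.id q) hS.mono_f).isoBinaryBiproduct
  have hne := GenusOneOdd.extClass_ne_zero hS hns
  have : Nontrivial (Ext Q (Coh.structureModule X) 1) := nontrivial_of_ne _ _ hne
  have hfin := HomEuler.finite_ext (k := k) hc hQ' (Groth.KTheory.LocFree.isCoh hO') 1
  have hpos : 0 < Module.finrank k (Ext Q (Coh.structureModule X) 1) := Module.finrank_pos
  have he := HomEuler.hom_sub_ext hc hω hQ' 1 _ hO' (rk_eq hO)
  rw [rk_eq hQ, hdQ, hd, hdO, hg] at he
  have : Nontrivial (Q ⟶ Coh.structureModule X) :=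
    Module.nontrivial_of_finrank_pos (R := k) (by push_cast at he; omega)
  obtain ⟨f, hf⟩ := exists_ne (0 : Q ⟶ Coh.structureModule X)
  have := mono_of_ne_zero hc hQ hO' f hf
  have := isIso_of_mono hc hQ' hO' f (by rw [rk_eq hQ, rk_eq hO]) (by rw [hdQ, hd, hdO])
  have w' : s ≫ q ≫ f = 0 := by rw [reassoc_of% w, zero_comp]
  refine ⟨s, q ≫ f, w', ?_, fun hsp => hns ?_⟩
  · let eS : ShortComplex.mk s q w ≅ ShortComplex.mk s (q ≫ f) w' :=
      ShortComplex.isoMk (Iso.refl _) (Iso.refl E) (asIso f) (by simp) (by simp)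
    exact ShortComplex.shortExact_of_iso eS hS
  · exact IsSplitEpi.mk' ⟨f ≫ section_ (q ≫ f), by
      rw [← cancel_mono f, Category.assoc, Category.assoc, IsSplitEpi.id, Category.comp_id,
        Category.id_comp]⟩

/-- There is at most one such bundle. -/
theorem nonempty_iso (hg : Curv2.genus k X = 1) {E E' : X.Modules}
    {s : Coh.structureModule X ⟶ E} {q : E ⟶ Coh.structureModule X} {w : s ≫ q = 0}
    (hS : (ShortComplex.mk s q w).ShortExact) (hns : ¬ IsSplitEpi q)
    {s' : Coh.structureModule X ⟶ E'} {q' : E' ⟶ Coh.structureModule X} {w' : s' ≫ q' = 0}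
    (hS' : (ShortComplex.mk s' q' w').ShortExact) (hns' : ¬ IsSplitEpi q') :
    Nonempty (E ≅ E') := by
  have hOi := Groth.EulerDeg.isInvertible_structureModule X
  have hO := Groth.LocFree.isInvertible_iff_ofRank_one.1 hOi
  have hO' := Groth.LocFree.isFinLocFree_of_rank hO
  have he := HomEuler.hom_sub_ext hc hω hO' 1 _ hO' (rk_eq hO)
  rw [rk_eq hO, hg, GenusOneEval.finrank_end_line hc hω hOi] at he
  have h1 : Module.finrank k (Ext (Coh.structureModule X) (Coh.structureModule X) 1) = 1 := by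
    push_cast at he
    omega
  have hne := GenusOneOdd.extClass_ne_zero hS hns
  have hne' := GenusOneOdd.extClass_ne_zero hS' hns'
  obtain ⟨c, hc'⟩ := (finrank_eq_one_iff_of_nonzero' _ hne).1 h1 hS'.extClass
  exact GenusOneOdd.nonempty_iso_of_smul hS hS' hc'.symm hne' hns
    fun ψ hψ => isIso_of_stable hc hO' (st_line hO) ψ hψ

end Groth.Curves1.RankTwo
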