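import Mathlib
import Groth.Agent.PicAux.BaseChangeModel
import Groth.Agent.CohBase.HomPull
import Groth.Agent.CohBase.HomNearFibre
import Groth.Agent.LocFree.Hom
import Groth.Agent.RefRank.HomSec
import Groth.Agent.FlatStrata.Semicont
import Groth.Agent.VBCurves.Slope

/-!
# Limits of stable bundles on a curve are unique
-/

set_option autoImplicit false
set_option linter.style.haveILetI false
set_option backward.isDefEq.respectTransparency.types false

universe u

open CategoryTheory CategoryTheory.Limits AlgebraicGeometry TopologicalSpace Opposite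

namespace Groth.Curves1.StableLimit

open Groth.CohBase.HomPull

/-- Nonzero global sections of the pulled back sheaf Hom are nonzero maps of the pullbacks. -/
theorem nontrivial_iff {W X : Scheme.{u}} (g : W ⟶ X) {F G : X.Modules}
    (hF : FlatMod.IsFinLocFree F) (hG : FlatMod.IsFinLocFree G) :
    Nontrivial Γ((Scheme.Modules.pullback g).obj (RefHull.homSh F G), ⊤) ↔
      ∃ φ : (Scheme.Modules.pullback g).obj F ⟶ (Scheme.Modules.pullback g).obj G, φ ≠ 0 := by
  have := isIso_comp g hF hG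
  set A := (Scheme.Modules.pullback g).obj F
  set B := (Scheme.Modules.pullback g).obj G
  let e : Γ((Scheme.Modules.pullback g).obj (RefHull.homSh F G), ⊤) ≃ Γ(RefHull.homSh A B, ⊤) :=
    { toFun := (comp g F G).app ⊤
      invFun := (inv (comp g F G)).app ⊤
      left_inv := fun s => congr(($(IsIso.hom_inv_id (comp g F G))).app ⊤ s)
      right_inv := fun s => congr(($(IsIso.inv_hom_id (comp g F G))).app ⊤ s) }
  rw [e.nontrivial_congr]
  constructor
  · intro hn
    obtain ⟨h, hh⟩ := exists_ne (0 : Γ(RefHull.homSh A B, ⊤))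
    obtain ⟨φ, hφ⟩ := exists_hom_of_global h
    refine ⟨φ, fun h0 => hh ?_⟩
    refine Groth.RefRank.hom_ext_sec fun x => CohTwo.SheafHomIso.stalkHom_ext' fun O hO a => ?_
    have h1 := hφ O a
    rw [h0] at h1
    rw [← Groth.RefRank.germ_applySec h le_top a x.1 hO, ← h1]
    refine (map_zero (Groth.QCohMod.germ B x.1 hO)).trans ?_
    rfl
  · rintro ⟨φ, hφ⟩
    refine ⟨⟨secOfHom φ, 0, fun h => hφ (Scheme.Modules.hom_ext _ _ fun V => ?_)⟩⟩
    ext a
    have h1 := applySec_secOfHom φ a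
    rw [h] at h1
    rw [← h1]
    refine Groth.RefRank.mod_section_ext B fun x hx => ?_
    rw [Groth.RefRank.germ_applySec]
    exact (LinearMap.zero_apply _).trans (map_zero (Groth.QCohMod.germ B x hx)).symm

/-- A linear form space is nonzero iff the fibre of the module is. -/
theorem nontrivial_hom_iff {A : Type u} [CommRing A] (Q : Type u) [AddCommGroup Q] [Module A Q]
    [Module.Finite A Q] (K : Type u) [Field K] [Algebra A K] :
    Nontrivial (Q →ₗ[A] K) ↔ 0 < Module.finrank K (TensorProduct A K Q) := by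
  rw [(LinearMap.liftBaseChangeEquiv (M := Q) (N := K) K).toEquiv.nontrivial_congr,
    ← Subspace.dual_finrank_eq, Module.finrank_pos_iff]

variable (k : Type u) [Field k] [IsAlgClosed k] {X : Scheme.{u}}
  [X.Over (Spec (CommRingCat.of k))] [IsProper (X ↘ Spec (CommRingCat.of k))]
  {T : Scheme.{u}} [T.Over (Spec (CommRingCat.of k))] [IsIntegral T]
  [Smooth (T ↘ Spec (CommRingCat.of k))]

omit [IsAlgClosed k] in
/-- The fibre over a rational point. -/
theorem isPullback_fibre {S : Scheme.{u}} (q : S ⟶ Spec (CommRingCat.of k))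
    (σ : Spec (CommRingCat.of k) ⟶ S) (hσ : σ ≫ q = 𝟙 _)
    (g : X ⟶ pullback (X ↘ Spec (CommRingCat.of k)) q) (hg₁ : g ≫ pullback.fst _ _ = 𝟙 X)
    (hg₂ : g ≫ pullback.snd _ _ = (X ↘ Spec (CommRingCat.of k)) ≫ σ) :
    IsPullback g (X ↘ Spec (CommRingCat.of k)) (pullback.snd (X ↘ Spec (CommRingCat.of k)) q) σ := by
  refine IsPullback.of_right ?_ hg₂ (IsPullback.of_hasPullback (X ↘ Spec (CommRingCat.of k)) q)
  rw [hg₁, hσ]
  exact IsPullback.of_horiz_isIso ⟨by simp⟩

/-- If two families of bundles have a nonzero map between their fibres off `t₀`, then also at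
`t₀`. -/
theorem exists_hom_fibre (hT : topologicalKrullDim T = 1) (t₀ : Spec (CommRingCat.of k) ⟶ T)
    (ht₀ : t₀ ≫ (T ↘ Spec (CommRingCat.of k)) = 𝟙 _)
    {E E' : (pullback (X ↘ Spec (CommRingCat.of k)) (T ↘ Spec (CommRingCat.of k))).Modules}
    (hE : FlatMod.IsFinLocFree E) (hE' : FlatMod.IsFinLocFree E')
    (h : ∀ (t : Spec (CommRingCat.of k) ⟶ T) (j : X ⟶ pullback (X ↘ Spec (CommRingCat.of k)) (T ↘ Spec (CommRingCat.of k))),
      t ≫ (T ↘ Spec (CommRingCat.of k)) = 𝟙 _ → t ≠ t₀ → j ≫ pullback.fst _ _ = 𝟙 X →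
      j ≫ pullback.snd _ _ = (X ↘ Spec (CommRingCat.of k)) ≫ t →
      ∃ φ : (Scheme.Modules.pullback j).obj E ⟶ (Scheme.Modules.pullback j).obj E', φ ≠ 0)
    (j₀ : X ⟶ pullback (X ↘ Spec (CommRingCat.of k)) (T ↘ Spec (CommRingCat.of k)))
    (hj₀ : j₀ ≫ pullback.fst _ _ = 𝟙 X)
    (hj₀' : j₀ ≫ pullback.snd _ _ = (X ↘ Spec (CommRingCat.of k)) ≫ t₀) :
    ∃ φ : (Scheme.Modules.pullback j₀).obj E ⟶ (Scheme.Modules.pullback j₀).obj E', φ ≠ 0 := by
  classical
  let pt₀ : T := t₀ (IsLocalRing.closedPoint k)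
  obtain ⟨_, ⟨U, hU, rfl⟩, hpU, -⟩ := T.isBasis_affineOpens.exists_subset_of_mem_open
    (Set.mem_univ pt₀) isOpen_univ
  haveI : IsLocallyNoetherian T := LocallyOfFiniteType.isLocallyNoetherian (T ↘ Spec (CommRingCat.of k))
  haveI : IsNoetherianRing Γ(T, U) := IsLocallyNoetherian.component_noetherian ⟨U, hU⟩
  let A : CommRingCat.{u} := Γ(T, U)
  let qA : Spec A ⟶ Spec (CommRingCat.of k) := hU.fromSpec ≫ (T ↘ Spec (CommRingCat.of k))
  let PA := pullback (X ↘ Spec (CommRingCat.of k)) qA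
  letI : PA.Over (Spec (CommRingCat.of A)) := ⟨pullback.snd (X ↘ Spec (CommRingCat.of k)) qA⟩
  let m : PA ⟶ pullback (X ↘ Spec (CommRingCat.of k)) (T ↘ Spec (CommRingCat.of k)) := pullback.map (X ↘ Spec (CommRingCat.of k)) qA (X ↘ Spec (CommRingCat.of k)) (T ↘ Spec (CommRingCat.of k)) (𝟙 X) hU.fromSpec (𝟙 _)
    (by simp) (by simp [qA])
  let EA := (Scheme.Modules.pullback m).obj E
  let EA' := (Scheme.Modules.pullback m).obj E'
  have hEA : FlatMod.IsFinLocFree EA := Groth.LocFree.isFinLocFree_pullback m hE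
  have hEA' : FlatMod.IsFinLocFree EA' := Groth.LocFree.isFinLocFree_pullback m hE'
  let F := RefHull.homSh EA EA'
  have hFl : FlatMod.IsFinLocFree F := Groth.LocFree.isFinLocFree_homSh hEA hEA'
  haveI : IsProper (PA ↘ Spec (CommRingCat.of A)) := inferInstanceAs (IsProper (pullback.snd (X ↘ Spec (CommRingCat.of k)) qA))
  haveI : Flat (X ↘ Spec (CommRingCat.of k)) := inferInstance
  haveI : Flat (PA ↘ Spec (CommRingCat.of A)) := inferInstanceAs (Flat (pullback.snd (X ↘ Spec (CommRingCat.of k)) qA))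
  haveI : IsLocallyNoetherian PA :=
    LocallyOfFiniteType.isLocallyNoetherian (PA ↘ Spec (CommRingCat.of A))
  have hFc : Coh.IsCoh F := Groth.KTheory.LocFree.isCoh hFl
  have hFf : FlatMod.IsFlatOver (PA ↘ Spec (CommRingCat.of A)) F :=
    Groth.CohBase.isFlatOver_of_isFinLocFree _ hFl
  obtain ⟨Q, hQ, θ₀, -, -, hrep⟩ := Groth.PicAux.BC.exists_rep A hFc hFf
  -- the fibres
  have hfib : ∀ (σ : A →+* k) (t : Spec (CommRingCat.of k) ⟶ T)
      (j : X ⟶ pullback (X ↘ Spec (CommRingCat.of k)) (T ↘ Spec (CommRingCat.of k))), t ≫ (T ↘ Spec (CommRingCat.of k)) = 𝟙 _ → Spec.map (CommRingCat.ofHom σ) ≫ hU.fromSpec = t →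
      j ≫ pullback.fst _ _ = 𝟙 X → j ≫ pullback.snd _ _ = (X ↘ Spec (CommRingCat.of k)) ≫ t →
      (letI := σ.toAlgebra; 0 < Module.finrank k (TensorProduct A k Q) ↔
        ∃ φ : (Scheme.Modules.pullback j).obj E ⟶ (Scheme.Modules.pullback j).obj E', φ ≠ 0) := by
    intro σ t j ht hσ hj hj'
    letI := σ.toAlgebra
    have hσq : Spec.map (CommRingCat.ofHom σ) ≫ qA = 𝟙 _ := by
      rw [← Category.assoc, hσ, ht]
    let g : X ⟶ PA := pullback.lift (𝟙 X) ((X ↘ Spec (CommRingCat.of k)) ≫ Spec.map (CommRingCat.ofHom σ)) (by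
      rw [Category.id_comp, Category.assoc, hσq, Category.comp_id])
    have hg₁ : g ≫ pullback.fst (X ↘ Spec (CommRingCat.of k)) qA = 𝟙 X := pullback.lift_fst _ _ _
    have hg₂ : g ≫ pullback.snd (X ↘ Spec (CommRingCat.of k)) qA = (X ↘ Spec (CommRingCat.of k)) ≫ Spec.map (CommRingCat.ofHom σ) := pullback.lift_snd _ _ _
    have hgm : g ≫ m = j := by
      apply pullback.hom_ext
      · rw [hj, Category.assoc]
        show g ≫ pullback.map _ _ _ _ _ _ _ _ _ ≫ _ = _
        rw [pullback.lift_fst, Category.comp_id, hg₁]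
      · rw [hj', Category.assoc]
        show g ≫ pullback.map _ _ _ _ _ _ _ _ _ ≫ _ = _
        rw [pullback.lift_snd, ← Category.assoc, hg₂, Category.assoc, hσ]
    obtain ⟨θ, hθ, -, -⟩ := hrep k X g (X ↘ Spec (CommRingCat.of k)) (isPullback_fibre k qA _ hσq g hg₁ hg₂)
    rw [← nontrivial_hom_iff Q k, (Equiv.ofBijective θ hθ).nontrivial_congr]
    refine (nontrivial_iff g hEA hEA').trans ?_
    let e := (Scheme.Modules.pullbackComp g m).app E ≪≫
      eqToIso (congrArg (fun i => (Scheme.Modules.pullback i).obj E) hgm)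
    let e' := (Scheme.Modules.pullbackComp g m).app E' ≪≫
      eqToIso (congrArg (fun i => (Scheme.Modules.pullback i).obj E') hgm)
    constructor
    · rintro ⟨φ, hφ⟩
      refine ⟨e.inv ≫ φ ≫ e'.hom, fun h0 => hφ ?_⟩
      have := congrArg (fun ψ => e.hom ≫ ψ ≫ e'.inv) h0
      simpa using this
    · rintro ⟨φ, hφ⟩
      refine ⟨e.hom ≫ φ ≫ e'.inv, fun h0 => hφ ?_⟩
      have := congrArg (fun ψ => e.inv ≫ ψ ≫ e'.hom) h0
      simpa using this
  -- rational points of `U`
  have hlift : ∀ t : Spec (CommRingCat.of k) ⟶ T, t (IsLocalRing.closedPoint k) ∈ U →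
      ∃ σ : A →+* k, Spec.map (CommRingCat.ofHom σ) ≫ hU.fromSpec = t := by
    intro t htU
    have hr : Set.range t ⊆ Set.range hU.fromSpec := by
      rintro _ ⟨z, rfl⟩
      rw [hU.range_fromSpec, Subsingleton.elim z (IsLocalRing.closedPoint k)]
      exact htU
    obtain ⟨σ, hσ⟩ := Spec.map_surjective (IsOpenImmersion.lift hU.fromSpec t hr)
    exact ⟨σ.hom, by rw [CommRingCat.ofHom_hom, hσ]; exact IsOpenImmersion.lift_fac _ _ hr⟩
  -- the points in a basic open
  have hbasic : ∀ (σ : A →+* k) (t : Spec (CommRingCat.of k) ⟶ T) (g : A),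
      Spec.map (CommRingCat.ofHom σ) ≫ hU.fromSpec = t →
        (t (IsLocalRing.closedPoint k) ∈ T.basicOpen (show Γ(T, U) from g) ↔ σ g ≠ 0) := by
    intro σ t g hσ
    rw [← hσ, Scheme.Hom.comp_apply, ← Scheme.Hom.mem_preimage, hU.fromSpec_preimage_basicOpen]
    change g ∉ (PrimeSpectrum.comap σ (IsLocalRing.closedPoint k)).asIdeal ↔ _
    rw [PrimeSpectrum.comap_asIdeal, Ideal.mem_comap]
    change σ g ∉ IsLocalRing.maximalIdeal k ↔ _
    rw [IsLocalRing.maximalIdeal_eq_bot, Ideal.mem_bot]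
  obtain ⟨σ₀, hσ₀⟩ := hlift t₀ hpU
  by_contra hne
  letI := σ₀.toAlgebra
  have h0 : Module.finrank k (TensorProduct A k Q) = 0 :=
    Nat.eq_zero_of_not_pos fun hpos => hne ((hfib σ₀ t₀ j₀ ht₀ hσ₀ hj₀ hj₀').1 hpos)
  obtain ⟨g, hg, hgle⟩ := Groth.FlatStrata.exists_finrank_tensor_le (A := A) Q k
  have hpg : pt₀ ∈ T.basicOpen (show Γ(T, U) from g) := (hbasic σ₀ t₀ g hσ₀).2 hg
  haveI : JacobsonSpace T := LocallyOfFiniteType.jacobsonSpace (T ↘ Spec (CommRingCat.of k))
  have hcl : IsClosed ({pt₀} : Set T) :=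
    ((pointEquivClosedPoint (T ↘ Spec (CommRingCat.of k))) ⟨t₀, ht₀⟩).2
  have hgen : genericPoint T ∈ ((T.basicOpen (show Γ(T, U) from g) : Set T) \ {pt₀}) := by
    refine ⟨((genericPoint_spec T).mem_open_set_iff (T.basicOpen _).2).2 ⟨pt₀, trivial, hpg⟩, fun he => ?_⟩
    rw [Set.mem_singleton_iff] at he
    rw [← he] at hcl
    haveI : Subsingleton T := ⟨fun a b => by
      have key : ∀ a : T, a = genericPoint T := fun a => by
        have : a ∈ closure ({genericPoint T} : Set T) := by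
          rw [(genericPoint_spec T).def]; trivial
        rwa [hcl.closure_eq] at this
      rw [key a, key b]⟩
    haveI : Subsingleton (IrreducibleCloseds T) := ⟨fun a b => IrreducibleCloseds.ext
      (a.isIrreducible.nonempty.eq_univ.trans b.isIrreducible.nonempty.eq_univ.symm)⟩
    have h2 : topologicalKrullDim T ≤ 0 := Order.krullDim_nonpos_of_subsingleton
    rw [hT] at h2
    exact absurd h2 (by norm_num)
  obtain ⟨x, ⟨hxg, hx0⟩, hxc⟩ := nonempty_inter_closedPoints ⟨_, hgen⟩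
    (((T.basicOpen (show Γ(T, U) from g)).2.sdiff hcl).isLocallyClosed)
  let t := pointOfClosedPoint (T ↘ Spec (CommRingCat.of k)) x hxc
  have htx : t (IsLocalRing.closedPoint k) = x := pointOfClosedPoint_apply (T ↘ Spec (CommRingCat.of k)) x hxc _
  obtain ⟨σ, hσ⟩ := hlift t (by rw [htx]; exact T.basicOpen_le _ hxg)
  let j : X ⟶ pullback (X ↘ Spec (CommRingCat.of k)) (T ↘ Spec (CommRingCat.of k)) := pullback.lift (𝟙 X) ((X ↘ Spec (CommRingCat.of k)) ≫ t) (by
    rw [Category.id_comp, Category.assoc, pointOfClosedPoint_comp, Category.comp_id])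
  have hpos := (hfib σ t j (pointOfClosedPoint_comp (T ↘ Spec (CommRingCat.of k)) x hxc) hσ (pullback.lift_fst _ _ _)
    (pullback.lift_snd _ _ _)).2 (h t j (pointOfClosedPoint_comp (T ↘ Spec (CommRingCat.of k)) x hxc)
      (fun e => hx0 (by rw [Set.mem_singleton_iff, ← htx, e]))
      (pullback.lift_fst _ _ _) (pullback.lift_snd _ _ _))
  letI := σ.toAlgebra
  have hgσ : σ g ≠ 0 := (hbasic σ t g hσ).1 (by rw [htx]; exact hxg)
  have := hgle k hgσ
  omega

open Groth.VBCurves in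
omit [IsAlgClosed k] in
/-- Stable bundles of the same rank with nonzero maps both ways are isomorphic. -/
theorem nonempty_iso_of_stable [IsIntegral X] (hc : IsVBCurve k X) {E F : X.Modules} {r : ℕ}
    (hE : FlatMod.IsFinLocFreeOfRank r E) (hF : FlatMod.IsFinLocFreeOfRank r F) (hr : 0 < r)
    (hEst : St k E) (hFst : St k F) (φ : E ⟶ F) (hφ : φ ≠ 0) (ψ : F ⟶ E) (hψ : ψ ≠ 0) :
    Nonempty (E ≅ F) := by
  have hE' := Groth.LocFree.isFinLocFree_of_rank hE
  have hF' := Groth.LocFree.isFinLocFree_of_rank hF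
  have key : ∀ {A B : X.Modules}, FlatMod.IsFinLocFreeOfRank r A →
      FlatMod.IsFinLocFreeOfRank r B → St k A → St k B → ∀ f : A ⟶ B, f ≠ 0 → dg k A ≤ dg k B := by
    intro A B hA hB hAs hBs f hf
    by_contra hlt
    refine hf (hom_eq_zero hc (Groth.LocFree.isFinLocFree_of_rank hA)
      (Groth.LocFree.isFinLocFree_of_rank hB) (hAs.ss hc (Groth.LocFree.isFinLocFree_of_rank hA))
      (fun G i hi hG hpos => ?_) f)
    rw [rk_eq hA]
    have h1 := hBs.ss hc (Groth.LocFree.isFinLocFree_of_rank hB) G i hi hG hpos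
    rw [rk_eq hB] at h1
    refine lt_of_le_of_lt h1 (mul_lt_mul_of_pos_right (not_le.1 hlt) ?_)
    exact_mod_cast hpos
  have hd : dg k E = dg k F := le_antisymm (key hE hF hEst hFst φ hφ) (key hF hE hFst hEst ψ hψ)
  have hrr : rk E = rk F := (rk_eq hE).trans (rk_eq hF).symm
  have : Mono φ := mono_of_stable hc hE' hF' hEst (hFst.ss hc hF') (by rw [hd, hrr])
    (by rw [rk_eq hF]; exact hr) φ hφ
  have := isIso_of_mono hc hE' hF' φ hrr hd
  exact ⟨asIso φ⟩

end Groth.Curves1.StableLimit
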