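import Mathlib

/-!
# Trace along exact sequences, and the trace on `B ⧸ P ^ e`
-/

namespace Groth.Curves1

variable {k : Type*} [Field k]

/-- Trace is additive along exact sequences. -/
theorem trace_eq_add_of_exact {U V Q : Type*} [AddCommGroup U] [Module k U] [AddCommGroup V]
    [Module k V] [AddCommGroup Q] [Module k Q] [FiniteDimensional k V] [FiniteDimensional k U]
    [FiniteDimensional k Q] (i : U →ₗ[k] V) (q : V →ₗ[k] Q) (hi : Function.Injective i)
    (hq : Function.Surjective q) (hex : Function.Exact i q)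
    (f : V →ₗ[k] V) (fU : U →ₗ[k] U) (fQ : Q →ₗ[k] Q)
    (h1 : f ∘ₗ i = i ∘ₗ fU) (h2 : q ∘ₗ f = fQ ∘ₗ q) :
    LinearMap.trace k V f = LinearMap.trace k U fU + LinearMap.trace k Q fQ := by
  obtain ⟨s, hs⟩ := LinearMap.exists_rightInverse_of_surjective q (LinearMap.range_eq_top.mpr hq)
  obtain ⟨r, hr⟩ := LinearMap.exists_leftInverse_of_injective i (LinearMap.ker_eq_bot.mpr hi)
  have hqi : ∀ u, q (i u) = 0 := hex.apply_apply_eq_zero
  have hid : LinearMap.id = i ∘ₗ (r ∘ₗ (LinearMap.id - s ∘ₗ q)) + s ∘ₗ q := by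
    ext v
    obtain ⟨u, hu⟩ := (hex (v - s (q v))).mp (by
      rw [map_sub, ← LinearMap.comp_apply q s, hs]; simp)
    have h' : r (i u) = u := LinearMap.congr_fun hr u
    simp only [LinearMap.id_coe, id_eq, LinearMap.add_apply, LinearMap.comp_apply,
      LinearMap.sub_apply]
    rw [← hu, h', hu, sub_add_cancel]
  have hri : (r ∘ₗ (LinearMap.id - s ∘ₗ q)) ∘ₗ i = LinearMap.id := by
    ext u
    have h' : r (i u) = u := LinearMap.congr_fun hr u
    simp [hqi, h']
  calc LinearMap.trace k V f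
      = LinearMap.trace k V (f ∘ₗ LinearMap.id) := by rw [LinearMap.comp_id]
    _ = LinearMap.trace k V ((f ∘ₗ i) ∘ₗ (r ∘ₗ (LinearMap.id - s ∘ₗ q)))
          + LinearMap.trace k V ((f ∘ₗ s) ∘ₗ q) := by
        conv_lhs => rw [hid, LinearMap.comp_add, map_add]
        simp only [LinearMap.comp_assoc]
    _ = LinearMap.trace k U fU + LinearMap.trace k Q fQ := by
        rw [LinearMap.trace_comp_comm' _ (f ∘ₗ i), LinearMap.trace_comp_comm' _ (f ∘ₗ s), h1,
          ← LinearMap.comp_assoc fU i, hri, LinearMap.id_comp, ← LinearMap.comp_assoc s f q, h2,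
          LinearMap.comp_assoc, hs, LinearMap.comp_id]

section Filtration

variable {V : Type*} [CommRing V] [Algebra k V] [FiniteDimensional k V]
  {l : Type*} [CommRing l] [Algebra k l] [FiniteDimensional k l]

omit [FiniteDimensional k V] in
theorem mul_mem_ker_mulLeft (c x v : V) (hv : v ∈ LinearMap.ker (LinearMap.mulLeft k c)) :
    x * v ∈ LinearMap.ker (LinearMap.mulLeft k c) := by
  simp only [LinearMap.mem_ker, LinearMap.mulLeft_apply] at hv ⊢
  rw [mul_left_comm, hv, mul_zero]

/-- Multiplication by `x` on the annihilator of `c`. -/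
def mulKer (c x : V) : LinearMap.ker (LinearMap.mulLeft k c) →ₗ[k] LinearMap.ker (LinearMap.mulLeft k c) :=
  ((LinearMap.mulLeft k x).comp (LinearMap.ker (LinearMap.mulLeft k c)).subtype).codRestrict _
    fun v => mul_mem_ker_mulLeft c x v v.2

/-- The trace on an algebra filtered by powers of `ϖ` with residue algebra `l`. -/
theorem trace_eq_nsmul (ϖ : V) (e : ℕ) (φ : V →ₐ[k] l) (hφ : Function.Surjective φ)
    (he : ϖ ^ (e + 1) = 0) (hker : ∀ v, φ v = 0 ↔ ϖ ^ e * v = 0)
    (himg : ∀ v, ϖ * v = 0 → ∃ w, v = ϖ ^ e * w) (x : V) :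
    Algebra.trace k V x = (e + 1) • Algebra.trace k l (φ x) := by
  have key : ∀ j, j ≤ e + 1 → LinearMap.trace k _ (mulKer (k := k) (ϖ ^ j) x) =
      j • Algebra.trace k l (φ x) := by
    -- the bottom piece is the residue algebra
    have hbase : LinearMap.trace k _ (mulKer (k := k) ϖ x) = Algebra.trace k l (φ x) := by
      have e1 := trace_eq_add_of_exact (LinearMap.ker (LinearMap.mulLeft k (ϖ ^ e))).subtype
        φ.toLinearMap Subtype.val_injective hφ (fun v => ⟨fun hv => ⟨⟨v, by
          simpa using (hker v).mp hv⟩, rfl⟩, by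
          rintro ⟨w, rfl⟩; exact (hker w).mpr (LinearMap.mem_ker.mp w.2)⟩)
        (LinearMap.mulLeft k x) (mulKer (ϖ ^ e) x) (LinearMap.mulLeft k (φ x))
        (by ext; simp [mulKer]) (by ext; simp)
      let ψ : V →ₗ[k] LinearMap.ker (LinearMap.mulLeft k ϖ) :=
        (LinearMap.mulLeft k (ϖ ^ e)).codRestrict _ fun v => by
          simp only [LinearMap.mem_ker, LinearMap.mulLeft_apply]
          rw [← mul_assoc, ← pow_succ', he, zero_mul]
      have e2 := trace_eq_add_of_exact (LinearMap.ker (LinearMap.mulLeft k (ϖ ^ e))).subtype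
        ψ Subtype.val_injective (fun v => by
          obtain ⟨w, hw⟩ := himg v.1 (LinearMap.mem_ker.mp v.2)
          exact ⟨w, Subtype.ext hw.symm⟩)
        (fun v => ⟨fun hv => ⟨⟨v, by simpa [ψ] using congrArg Subtype.val hv⟩, rfl⟩, by
          rintro ⟨w, rfl⟩; exact Subtype.ext (LinearMap.mem_ker.mp w.2)⟩)
        (LinearMap.mulLeft k x) (mulKer (ϖ ^ e) x) (mulKer ϖ x)
        (by ext; simp [mulKer]) (LinearMap.ext fun v => Subtype.ext (mul_left_comm _ _ _))
      exact add_left_cancel (e2.symm.trans e1)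
    intro j
    induction j with
    | zero =>
      intro _
      have : Subsingleton (LinearMap.ker (LinearMap.mulLeft k (ϖ ^ 0))) := ⟨fun a b => by
        have ha : (a : V) = 0 := by simpa using a.2
        have hb : (b : V) = 0 := by simpa using b.2
        exact Subtype.ext (ha.trans hb.symm)⟩
      rw [zero_smul, Subsingleton.elim (mulKer (k := k) (ϖ ^ 0) x) 0, map_zero]
    | succ j ih =>
      intro hj
      have hle : LinearMap.ker (LinearMap.mulLeft k (ϖ ^ j)) ≤
          LinearMap.ker (LinearMap.mulLeft k (ϖ ^ (j + 1))) := fun v hv => by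
        simp only [LinearMap.mem_ker, LinearMap.mulLeft_apply] at hv ⊢
        rw [pow_succ', mul_assoc, hv, mul_zero]
      let q : LinearMap.ker (LinearMap.mulLeft k (ϖ ^ (j + 1))) →ₗ[k] LinearMap.ker (LinearMap.mulLeft k ϖ) :=
        ((LinearMap.mulLeft k (ϖ ^ j)).comp (LinearMap.ker (LinearMap.mulLeft k (ϖ ^ (j + 1)))).subtype).codRestrict _
          fun v => by
            have hv : ϖ ^ (j + 1) * (v : V) = 0 := LinearMap.mem_ker.mp v.2
            change ϖ * (ϖ ^ j * (v : V)) = 0
            rw [← mul_assoc, ← pow_succ', hv]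
      rw [trace_eq_add_of_exact (Submodule.inclusion hle) q (Submodule.inclusion_injective hle)
        (fun v => by
          obtain ⟨w, hw⟩ := himg v.1 (LinearMap.mem_ker.mp v.2)
          have he1 : ϖ ^ j * ϖ ^ (e - j) = ϖ ^ e := by
            rw [← pow_add, Nat.add_sub_cancel' (by omega)]
          refine ⟨⟨ϖ ^ (e - j) * w, ?_⟩, Subtype.ext ?_⟩
          · change ϖ ^ (j + 1) * (ϖ ^ (e - j) * w) = 0
            rw [← mul_assoc, ← pow_add, show j + 1 + (e - j) = e + 1 by omega, he, zero_mul]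
          · change ϖ ^ j * (ϖ ^ (e - j) * w) = v.1
            rw [← mul_assoc, he1, hw])
        (fun v => ⟨fun hv => ⟨⟨v.1, congrArg Subtype.val hv⟩, Subtype.ext rfl⟩, by
          rintro ⟨w, rfl⟩; exact Subtype.ext (LinearMap.mem_ker.mp w.2)⟩)
        (mulKer (ϖ ^ (j + 1)) x) (mulKer (ϖ ^ j) x) (mulKer ϖ x)
        (LinearMap.ext fun v => Subtype.ext rfl)
        (LinearMap.ext fun v => Subtype.ext (mul_left_comm _ _ _)),
        ih (by omega), hbase, succ_nsmul]
  rw [← key (e + 1) le_rfl]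
  have htop : LinearMap.ker (LinearMap.mulLeft k (ϖ ^ (e + 1))) = ⊤ := by
    rw [he]; ext; simp
  have := LinearMap.trace_conj' (mulKer (k := k) (ϖ ^ (e + 1)) x) (LinearEquiv.ofTop _ htop)
  rw [Algebra.trace_apply, ← this]
  exact congrArg _ (LinearMap.ext fun v => rfl)

end Filtration

end Groth.Curves1
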